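import Cfsg.Agent.H284.EP.Engine

/-!
# Extremely primitive groups, own characteristic: the abstract case (B) of helper918 (helper284)

`PanelB H R P D M p` : `H` a point stabiliser of an extremely primitive group, `R` a Sylow `p`-subgroup of `H`, `P ≤ H`
("minimal parabolic" or `P_J`), `D ≤ R` normalised by `P`, `M ≥ R` a two point stabiliser not containing `P`.
`VecB` : a group `W ≥ D`, `W ∩ H = D`, `W/D` elementary abelian, normalised by `P`.
-/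

set_option autoImplicit false
set_option linter.unusedSectionVars false

namespace Cfsg.Agent.H284

open MulAction Subgroup

variable {G : Type*} [Group G]

/-- the setting of case (B) -/
structure PanelB (H R P D M : Subgroup G) (p : ℕ) : Prop where
  ep : EP H
  hp : p.Prime
  RH : R ≤ H
  Rp : IsPGroup p R
  /-- `R` is a Sylow `p`-subgroup of `H` -/
  Rsyl : ∀ Q : Subgroup G, Q ≤ H → IsPGroup p Q → R ≤ Q → Q = R
  /-- (T) Tits: two point stabilisers above `R` contain `N_H(R)` -/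
  tits : ∀ M' ∈ EP.twoSet H, R ≤ M' → ∀ g ∈ H, (∀ r ∈ R, g * r * g⁻¹ ∈ R) → g ∈ M'
  PH : P ≤ H
  NR : ∀ g ∈ H, (∀ r ∈ R, g * r * g⁻¹ ∈ R) → g ∈ P
  M2 : M ∈ EP.twoSet H
  RM : R ≤ M
  PM : ¬ P ≤ M
  /-- (U) -/
  uniq : ∀ M' ∈ EP.twoSet H, R ≤ M' → ¬ P ≤ M' → M' = M
  DR : D ≤ R
  Dn : ∀ g ∈ P, ∀ d ∈ D, g * d * g⁻¹ ∈ D
  /-- (K) two point stabilisers above `D` have a `P`-conjugate above `R` -/
  par : ∀ M' ∈ EP.twoSet H, D ≤ M' → ∃ g ∈ P, R ≤ cj g M'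

/-- the vectors -/
structure VecB (H P D W : Subgroup G) (p : ℕ) : Prop where
  DW : D ≤ W
  WH : W ⊓ H = D
  Wn : ∀ g ∈ P, ∀ w ∈ W, g * w * g⁻¹ ∈ W
  WD : ∀ w ∈ W, ∀ d ∈ D, w * d * w⁻¹ ∈ D
  comm : ∀ w ∈ W, ∀ w' ∈ W, w * w' * w⁻¹ * w'⁻¹ ∈ D
  pow : ∀ w ∈ W, w ^ p ∈ D

/-- existence of the vectors in a `p`-group `Q` normalised by `P` with `Q ∩ H = D < Q` -/
theorem exists_vecB [Finite G] {H P D Q : Subgroup G} {p : ℕ} (hp : p.Prime)
    (Dn : ∀ g ∈ P, ∀ d ∈ D, g * d * g⁻¹ ∈ D) (hQp : IsPGroup p Q)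
    (hQn : ∀ g ∈ P, ∀ w ∈ Q, g * w * g⁻¹ ∈ Q) (hDQ : D ≤ Q) (hQH : Q ⊓ H = D) (hne : Q ≠ D) :
    ∃ W ≤ Q, W ≠ D ∧ VecB H P D W p := by
  have := Fact.mk hp
  have hnD : ∀ g : G, (∀ d ∈ D, g * d * g⁻¹ ∈ D) → ∀ d ∈ D, g⁻¹ * d * g⁻¹⁻¹ ∈ D := by
    intro g hg d hd
    have h1 : cj g D = D := by
      apply Subgroup.eq_of_le_of_card_ge
      · rintro _ ⟨k, hk, rfl⟩
        exact hg k hk
      · rw [card_cj]
    rw [← h1, mem_cj] at hd
    rwa [inv_inv]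
  -- `Q₁ = N_Q(D)`
  let Q₁ : Subgroup G :=
    { carrier := {g | g ∈ Q ∧ ∀ d ∈ D, g * d * g⁻¹ ∈ D}
      one_mem' := ⟨one_mem _, fun d hd => by rwa [one_mul, inv_one, mul_one]⟩
      mul_mem' := by
        rintro a b ⟨h1, h2⟩ ⟨h3, h4⟩
        refine ⟨mul_mem h1 h3, fun d hd => ?_⟩
        have e : a * b * d * (a * b)⁻¹ = a * (b * d * b⁻¹) * a⁻¹ := by group
        rw [e]
        exact h2 _ (h4 d hd)
      inv_mem' := by
        rintro a ⟨h1, h2⟩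
        exact ⟨inv_mem h1, hnD a h2⟩ }
  have hQ₁Q : Q₁ ≤ Q := fun g hg => hg.1
  have hDQ₁ : D ≤ Q₁ := fun d hd => ⟨hDQ hd, fun d' hd' => mul_mem (mul_mem hd hd') (inv_mem hd)⟩
  obtain ⟨y, hyQ, hyD, hyn⟩ := exists_norm_lt hp hQp hDQ hne
  have hyQ₁ : y ∈ Q₁ := ⟨hyQ, hyn⟩
  have hQ₁n : ∀ g ∈ P, ∀ w ∈ Q₁, g * w * g⁻¹ ∈ Q₁ := by
    rintro g hg w ⟨h1, h2⟩
    refine ⟨hQn g hg w h1, fun d hd => ?_⟩
    have h3 := hnD g (Dn g hg) d hd
    rw [inv_inv] at h3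
    have e : g * w * g⁻¹ * d * (g * w * g⁻¹)⁻¹ = g * (w * (g⁻¹ * d * g) * w⁻¹) * g⁻¹ := by group
    rw [e]
    exact Dn g hg _ (h2 _ h3)
  -- the quotient `Q₁/D`
  have hDn : (D.subgroupOf Q₁).Normal := by
    constructor
    intro d hd g
    exact g.2.2 _ hd
  have hQ₁p : IsPGroup p (Q₁ ⧸ D.subgroupOf Q₁) := (hQp.to_le hQ₁Q).to_quotient _
  have hnt : Nontrivial (Q₁ ⧸ D.subgroupOf Q₁) := by
    refine ⟨⟨((⟨y, hyQ₁⟩ : Q₁) : Q₁ ⧸ D.subgroupOf Q₁), 1, ?_⟩⟩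
    intro e
    exact hyD ((QuotientGroup.eq_one_iff (N := D.subgroupOf Q₁) _).1 e)
  have hZ : Nontrivial (center (Q₁ ⧸ D.subgroupOf Q₁)) := hQ₁p.center_nontrivial
  obtain ⟨z, hz⟩ : ∃ z : center (Q₁ ⧸ D.subgroupOf Q₁), orderOf z = p := by
    have h1 : p ∣ Nat.card (center (Q₁ ⧸ D.subgroupOf Q₁)) := by
      have h2 := (hQ₁p.to_subgroup (center (Q₁ ⧸ D.subgroupOf Q₁))).card_eq_or_dvd
      rcases h2 with h3 | h3
      · exfalso
        have := Finite.one_lt_card_iff_nontrivial.2 hZ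
        omega
      · exact h3
    exact exists_prime_orderOf_dvd_card' p h1
  have hQcomm : ∀ a b : Q₁, ((a : Q₁ ⧸ D.subgroupOf Q₁) * b = b * a) ↔ (a : G) * b * (a : G)⁻¹ * (b : G)⁻¹ ∈ D := by
    intro a b
    have h1 : ((a : Q₁ ⧸ D.subgroupOf Q₁) * b = b * a) ↔ ((a * b * a⁻¹ * b⁻¹ : Q₁) : Q₁ ⧸ D.subgroupOf Q₁) = 1 := by
      rw [QuotientGroup.mk_mul, QuotientGroup.mk_mul, QuotientGroup.mk_mul, QuotientGroup.mk_inv,
        QuotientGroup.mk_inv, mul_inv_eq_one, mul_inv_eq_iff_eq_mul]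
    rw [h1, QuotientGroup.eq_one_iff]
    rfl
  -- the group `W`
  let W₀ : Subgroup (Q₁ ⧸ D.subgroupOf Q₁) :=
    { carrier := {x | x ∈ center (Q₁ ⧸ D.subgroupOf Q₁) ∧ x ^ p = 1}
      one_mem' := ⟨one_mem _, one_pow _⟩
      mul_mem' := by
        rintro a b ⟨h1, h2⟩ ⟨h3, h4⟩
        refine ⟨mul_mem h1 h3, ?_⟩
        rw [(show Commute a b from ((mem_center_iff.1 h3) a)).mul_pow, h2, h4, one_mul]
      inv_mem' := by
        rintro a ⟨h1, h2⟩
        exact ⟨inv_mem h1, by rw [inv_pow, h2, inv_one]⟩ }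
  let W : Subgroup G := (W₀.comap (QuotientGroup.mk' (D.subgroupOf Q₁))).map Q₁.subtype
  have hmem : ∀ w : Q₁, (w : G) ∈ W ↔ (w : Q₁ ⧸ D.subgroupOf Q₁) ∈ W₀ := by
    intro w
    constructor
    · rintro ⟨v, hv, e⟩
      have : v = w := Subtype.ext e
      rw [← this]
      exact hv
    · intro hw
      exact ⟨w, hw, rfl⟩
  have hWQ₁ : W ≤ Q₁ := by
    rintro _ ⟨v, _, rfl⟩
    exact v.2
  have hDW : D ≤ W := by
    intro d hd
    have h1 : ((⟨d, hDQ₁ hd⟩ : Q₁) : Q₁ ⧸ D.subgroupOf Q₁) = 1 := (QuotientGroup.eq_one_iff _).2 hd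
    exact (hmem ⟨d, hDQ₁ hd⟩).2 (by rw [h1]; exact one_mem _)
  refine ⟨W, hWQ₁.trans hQ₁Q, ?_, ⟨hDW, ?_, ?_, ?_, ?_, ?_⟩⟩
  · intro e
    obtain ⟨w, hw⟩ := QuotientGroup.mk_surjective (z : Q₁ ⧸ D.subgroupOf Q₁)
    have h1 : (w : G) ∈ W := by
      rw [hmem, hw]
      refine ⟨z.2, ?_⟩
      have h2 := pow_orderOf_eq_one z
      rw [hz] at h2
      exact Subtype.ext_iff.1 h2
    rw [e] at h1
    have h2 : (w : Q₁ ⧸ D.subgroupOf Q₁) = 1 := (QuotientGroup.eq_one_iff _).2 h1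
    rw [hw] at h2
    have h3 : z = 1 := Subtype.ext h2
    rw [h3, orderOf_one] at hz
    exact hp.one_lt.ne hz
  · apply le_antisymm
    · rw [← hQH]
      exact inf_le_inf_right _ (hWQ₁.trans hQ₁Q)
    · refine le_inf hDW ?_
      rw [← hQH]
      exact inf_le_right
  · intro g hg w hw
    have hwQ := hWQ₁ hw
    have h1 := (hmem ⟨w, hwQ⟩).1 hw
    refine (hmem ⟨g * w * g⁻¹, hQ₁n g hg w hwQ⟩).2 ⟨?_, ?_⟩
    · rw [mem_center_iff]
      intro x
      obtain ⟨v, rfl⟩ := QuotientGroup.mk_surjective x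
      rw [hQcomm]
      have hg' : ∀ d ∈ D, g⁻¹ * d * g ∈ D := by
        intro d hd
        have h3 := hnD g (Dn g hg) d hd
        rwa [inv_inv] at h3
      have hv' : g⁻¹ * (v : G) * g ∈ Q₁ := by
        have h3 : cj g Q₁ = Q₁ := by
          apply Subgroup.eq_of_le_of_card_ge
          · rintro _ ⟨k, hk, rfl⟩
            exact hQ₁n g hg k hk
          · rw [card_cj]
        have h4 : (v : G) ∈ cj g Q₁ := by rw [h3]; exact v.2
        exact mem_cj.1 h4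
      have h2 := (mem_center_iff.1 h1.1) ((⟨g⁻¹ * (v : G) * g, hv'⟩ : Q₁) : Q₁ ⧸ D.subgroupOf Q₁)
      rw [hQcomm] at h2
      have h3 := Dn g hg _ h2
      have e : g * ((g⁻¹ * (v : G) * g) * w * (g⁻¹ * (v : G) * g)⁻¹ * w⁻¹) * g⁻¹ =
          (v : G) * (g * w * g⁻¹) * (v : G)⁻¹ * (g * w * g⁻¹)⁻¹ := by group
      have h3' : g * ((g⁻¹ * (v : G) * g) * w * (g⁻¹ * (v : G) * g)⁻¹ * w⁻¹) * g⁻¹ ∈ D := h3
      rw [e] at h3'
      exact h3'
    · have h2 := h1.2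
      rw [← QuotientGroup.mk_pow, QuotientGroup.eq_one_iff] at h2 ⊢
      have h3 : w ^ p ∈ D := h2
      show (g * w * g⁻¹) ^ p ∈ D
      rw [conj_pow]
      exact Dn g hg _ h3
  · intro w hw d hd
    exact (hWQ₁ hw).2 d hd
  · intro w hw w' hw'
    have h1 := ((hmem ⟨w, hWQ₁ hw⟩).1 hw).1
    have h2 := (mem_center_iff.1 h1) ((⟨w', hWQ₁ hw'⟩ : Q₁) : Q₁ ⧸ D.subgroupOf Q₁)
    exact (hQcomm ⟨w, hWQ₁ hw⟩ ⟨w', hWQ₁ hw'⟩).1 h2.symm
  · intro w hw
    have h1 := ((hmem ⟨w, hWQ₁ hw⟩).1 hw).2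
    rw [← QuotientGroup.mk_pow, QuotientGroup.eq_one_iff] at h1
    exact h1

namespace VecB

variable {H P D W : Subgroup G} {p : ℕ} (v : VecB H P D W p)

include v

/-- the stabiliser of the vector `wD` in `P` is `P ∩ H^w` -/
theorem stab_iff (hPH : P ≤ H) {w : G} (hw : w ∈ W) {g : G} (hg : g ∈ P) :
    w⁻¹ * (g * w * g⁻¹) ∈ D ↔ g ∈ cj w H := by
  have hDH : D ≤ H := by rw [← v.WH]; exact inf_le_right
  rw [mem_cj]
  constructor
  · intro h1
    have e : w⁻¹ * g * w = w⁻¹ * (g * w * g⁻¹) * g := by group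
    rw [e]
    exact H.mul_mem (hDH h1) (hPH hg)
  · intro h1
    rw [← v.WH]
    refine ⟨W.mul_mem (W.inv_mem hw) (v.Wn g hg w hw), ?_⟩
    have e : w⁻¹ * (g * w * g⁻¹) = w⁻¹ * g * w * g⁻¹ := by group
    rw [e]
    exact H.mul_mem h1 (H.inv_mem (hPH hg))

theorem notMem_H {w : G} (hw : w ∈ W) (hwD : w ∉ D) : w ∉ H := fun e => hwD (by rw [← v.WH]; exact ⟨hw, e⟩)

end VecB

namespace PanelB

variable {H R P D M W : Subgroup G} {p : ℕ} (c : PanelB H R P D M p)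

include c

theorem DH : D ≤ H := c.DR.trans c.RH

theorem RP : R ≤ P := fun r hr => c.NR r (c.RH hr) fun _ hr' => R.mul_mem (R.mul_mem hr hr') (R.inv_mem hr)

theorem MH : M ≤ H := by
  obtain ⟨x, _, e⟩ := c.M2
  rw [e]
  exact inf_le_left

/-- two-point stabilisers above `R` are preserved by elements normalising `R` -/
theorem D_le (v : VecB H P D W p) {w : G} (hw : w ∈ W) : D ≤ H ⊓ cj w H := by
  refine le_inf c.DH ?_
  intro d hd
  rw [mem_cj]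
  have h1 := v.WD w⁻¹ (W.inv_mem hw) d hd
  rw [inv_inv] at h1
  exact c.DH h1

theorem two_mem (v : VecB H P D W p) {w : G} (hw : w ∈ W) (hwD : w ∉ D) : H ⊓ cj w H ∈ EP.twoSet H :=
  ⟨w, v.notMem_H hw hwD, rfl⟩

omit c in
theorem cj_two {x g : G} (hg : g ∈ H) : cj g (H ⊓ cj x H) = H ⊓ cj (g * x * g⁻¹) H := by
  rw [cj_inf, cj_eq_self hg, ← cj_mul]
  congr 1
  rw [cj_mul (g * x), cj_eq_self (H.inv_mem hg)]

omit c in
theorem cj_mem_twoSet {M' : Subgroup G} {g : G} (hM' : M' ∈ EP.twoSet H) (hg : g ∈ H) : cj g M' ∈ EP.twoSet H := by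
  obtain ⟨x, hx, rfl⟩ := hM'
  refine ⟨g * x * g⁻¹, ?_, cj_two hg⟩
  intro e
  apply hx
  have h1 := H.mul_mem (H.mul_mem (H.inv_mem hg) e) hg
  have e2 : g⁻¹ * (g * x * g⁻¹) * g = x := by group
  rwa [e2] at h1

/-- `N_{G_b}(R) = N_H(R)` -/
theorem norm_point [Finite G] {x : G} (hx : x ∉ H) (hR : R ≤ cj x H) {g : G} (hg : g ∈ cj x H)
    (hgR : ∀ r ∈ R, g * r * g⁻¹ ∈ R) : g ∈ H := by
  have := Fact.mk c.hp
  -- `R' = x⁻¹ R x` is a Sylow subgroup of `H`, conjugate to `R` in `H`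
  have hR' : cj x⁻¹ R ≤ H := by rw [cj_le_iff, inv_inv]; exact hR
  have hRs : IsPGroup p (R.subgroupOf H) := c.Rp.of_equiv (Subgroup.subgroupOfEquivOfLe c.RH).symm
  have hmax : ∀ Q : Subgroup G, Q ≤ H → IsPGroup p Q → Nat.card Q ≤ Nat.card R := by
    intro Q hQ hQp
    obtain ⟨S, hS⟩ := hRs.exists_le_sylow
    have hSR : (S : Subgroup H).map H.subtype = R := by
      apply c.Rsyl
      · rintro _ ⟨y, _, rfl⟩
        exact y.2
      · exact S.isPGroup'.map _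
      · intro r hr
        exact ⟨⟨r, c.RH hr⟩, hS hr, rfl⟩
    have hQ' : IsPGroup p (Q.subgroupOf H) := hQp.of_equiv (Subgroup.subgroupOfEquivOfLe hQ).symm
    obtain ⟨S', hS'⟩ := hQ'.exists_le_sylow
    have h1 : Nat.card (Q.subgroupOf H) ≤ Nat.card S' := Nat.card_mono (Set.toFinite _) hS'
    have h2 : Nat.card S' = Nat.card S := Nat.card_congr (Sylow.equiv S' S).toEquiv
    have h3 : Nat.card S = Nat.card R := by
      rw [← hSR]
      exact Nat.card_congr ((S : Subgroup H).equivMapOfInjective _ H.subtype_injective).toEquiv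
    have h4 : Nat.card (Q.subgroupOf H) = Nat.card Q := Nat.card_congr (Subgroup.subgroupOfEquivOfLe hQ).toEquiv
    omega
  -- `R` and `x⁻¹Rx` conjugate in `H`
  obtain ⟨k, hk, hkR⟩ : ∃ k ∈ H, cj k R = cj x⁻¹ R := by
    obtain ⟨S, hS⟩ := hRs.exists_le_sylow
    have hSR : (S : Subgroup H).map H.subtype = R := by
      apply c.Rsyl
      · rintro _ ⟨y, _, rfl⟩
        exact y.2
      · exact S.isPGroup'.map _
      · intro r hr
        exact ⟨⟨r, c.RH hr⟩, hS hr, rfl⟩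
    have hQ' : IsPGroup p ((cj x⁻¹ R).subgroupOf H) :=
      (c.Rp.map (MulAut.conj x⁻¹).toMonoidHom).of_equiv (Subgroup.subgroupOfEquivOfLe hR').symm
    obtain ⟨S', hS'⟩ := hQ'.exists_le_sylow
    obtain ⟨k, hk⟩ := MulAction.exists_smul_eq H S S'
    refine ⟨k, k.2, ?_⟩
    have h1 : cj (k : G) R ≤ (S' : Subgroup H).map H.subtype := by
      rintro _ ⟨r, hr, rfl⟩
      rw [← hSR] at hr
      obtain ⟨y, hy, rfl⟩ := hr
      refine ⟨k * y * k⁻¹, ?_, rfl⟩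
      show k * y * k⁻¹ ∈ S'
      rw [← hk]
      exact ⟨y, hy, rfl⟩
    have h2 : cj x⁻¹ R ≤ (S' : Subgroup H).map H.subtype := by
      intro r hr
      exact ⟨⟨r, hR' hr⟩, hS' hr, rfl⟩
    have h3 : Nat.card ((S' : Subgroup H).map H.subtype) ≤ Nat.card R := by
      apply hmax
      · rintro _ ⟨y, _, rfl⟩
        exact y.2
      · exact S'.isPGroup'.map _
    have h4 : cj (k : G) R = (S' : Subgroup H).map H.subtype :=
      Subgroup.eq_of_le_of_card_ge h1 (by rw [card_cj]; exact h3)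
    have h5 : cj x⁻¹ R = (S' : Subgroup H).map H.subtype :=
      Subgroup.eq_of_le_of_card_ge h2 (by rw [card_cj]; exact h3)
    rw [h4, h5]
  -- `y = x k` normalises `R` and maps `H` to `H^x`
  have hy : cj (x * k) R = R := by rw [cj_mul, hkR, cj_cj_inv]
  have hyH : cj (x * k) H = cj x H := by rw [cj_mul, cj_eq_self hk]
  -- the normalisers
  let NH : Subgroup G := H ⊓ Subgroup.normalizer (R : Set G)
  have hmemN : ∀ g : G, g ∈ Subgroup.normalizer (R : Set G) ↔ cj g R = R := by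
    intro g
    constructor
    · intro h1
      ext r
      rw [mem_cj]
      have h2 := (Subgroup.mem_normalizer_iff.1 h1) (g⁻¹ * r * g)
      have e : g * (g⁻¹ * r * g) * g⁻¹ = r := by group
      rw [e] at h2
      exact h2
    · intro h1
      rw [Subgroup.mem_normalizer_iff]
      intro r
      constructor
      · intro hr
        rw [← h1]
        exact conj_mem_cj hr
      · intro hr
        rw [← h1, mem_cj] at hr
        have e : g⁻¹ * (g * r * g⁻¹) * g = r := by group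
        rwa [e] at hr
  have hmemN' : ∀ g : G, (∀ r ∈ R, g * r * g⁻¹ ∈ R) → g ∈ Subgroup.normalizer (R : Set G) := by
    intro g hg
    rw [hmemN]
    apply Subgroup.eq_of_le_of_card_ge
    · rintro _ ⟨k, hk, rfl⟩
      exact hg k hk
    · rw [card_cj]
  have h1 : NH ≤ cj x H ⊓ Subgroup.normalizer (R : Set G) := by
    intro g hg
    refine ⟨?_, hg.2⟩
    have h2 := c.tits (H ⊓ cj x H) ⟨x, hx, rfl⟩ (le_inf c.RH hR) g hg.1 (fun r hr =>
      (Subgroup.mem_normalizer_iff.1 hg.2 r).1 hr)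
    exact h2.2
  have h2 : cj (x * k) NH = cj x H ⊓ Subgroup.normalizer (R : Set G) := by
    rw [cj_inf, hyH]
    congr 1
    ext g
    rw [mem_cj, hmemN, hmemN]
    have hy' : cj (x * k)⁻¹ R = R := by
      conv_lhs => rw [← hy]
      rw [cj_inv_cj]
    constructor
    · intro h3
      have h4 : cj (x * k) (cj ((x * k)⁻¹ * g * (x * k)) R) = cj (x * k) R := by rw [h3]
      rw [← cj_mul] at h4
      have e : x * k * ((x * k)⁻¹ * g * (x * k)) = g * (x * k) := by group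
      rw [e, cj_mul, hy] at h4
      exact h4
    · intro h3
      rw [cj_mul, hy, cj_mul, h3, hy']
  have h3 : NH = cj x H ⊓ Subgroup.normalizer (R : Set G) := by
    apply Subgroup.eq_of_le_of_card_ge h1
    rw [← h2, card_cj]
  have h4 : g ∈ NH := by
    rw [h3]
    exact ⟨hg, hmemN' g hgR⟩
  exact h4.1

/-- **CLAIM C** (helper918): `P` fixes no nonzero vector -/
theorem claimC [Finite G] (v : VecB H P D W p) {w : G} (hw : w ∈ W) (hwD : w ∉ D) : ¬ P ≤ cj w H := by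
  intro hPw
  have hwH := v.notMem_H hw hwD
  have h := c.ep
  -- `w` normalises `R` and `P`
  have hfixD : ∀ g ∈ P, w⁻¹ * (g * w * g⁻¹) ∈ D := fun g hg => (v.stab_iff c.PH hw hg).2 (hPw hg)
  have hcjw : ∀ g ∈ P, w⁻¹ * g * w ∈ P ∧ (g ∈ R → w⁻¹ * g * w ∈ R) := by
    intro g hg
    have e : w⁻¹ * g * w = w⁻¹ * (g * w * g⁻¹) * g := by group
    rw [e]
    have h1 := hfixD g hg
    exact ⟨P.mul_mem (c.RP (c.DR h1)) hg, fun hR => R.mul_mem (c.DR h1) hR⟩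
  have hR1 : cj w⁻¹ R = R := by
    apply Subgroup.eq_of_le_of_card_ge
    · intro r hr
      rw [mem_cj, inv_inv] at hr
      have hr' : w * r * w⁻¹ ∈ R := hr
      have := (hcjw _ (c.RP hr')).2 hr'
      have e : w⁻¹ * (w * r * w⁻¹) * w = r := by group
      rwa [e] at this
    · rw [card_cj]
  have hP1 : cj w⁻¹ P = P := by
    apply Subgroup.eq_of_le_of_card_ge
    · intro r hr
      rw [mem_cj, inv_inv] at hr
      have := (hcjw _ hr).1
      have e : w⁻¹ * (w * r * w⁻¹) * w = r := by group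
      rwa [e] at this
    · rw [card_cj]
  have hRw : cj w R = R := by
    conv_lhs => rw [← hR1]
    rw [cj_cj_inv]
  have hPw' : cj w P = P := by
    conv_lhs => rw [← hP1]
    rw [cj_cj_inv]
  -- the points `a = H`, `a' = wH`, `b = yH`, `b' = wyH`
  obtain ⟨y, hy, hMy⟩ := c.M2
  have hRy : R ≤ cj y H := by
    have := c.RM
    rw [hMy] at this
    exact this.trans inf_le_right
  have hPy : ¬ P ≤ cj y H := fun e => c.PM (by rw [hMy]; exact le_inf c.PH e)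
  have hRwy : R ≤ cj (w * y) H := by
    rw [cj_mul, ← hRw]
    exact cj_mono hRy
  have hPwy : ¬ P ≤ cj (w * y) H := by
    intro e
    apply hPy
    rw [cj_mul, ← hPw'] at e
    have := cj_mono (x := w⁻¹) e
    rwa [cj_inv_cj, cj_inv_cj] at this
  have hwyH : w * y ∉ H := by
    intro e
    apply hPwy
    rw [cj_eq_self e]
    exact c.PH
  -- `G_ab' = M`
  have hM1 : H ⊓ cj (w * y) H = M := by
    apply c.uniq _ ⟨w * y, hwyH, rfl⟩ (le_inf c.RH hRwy)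
    intro e
    exact hPwy (e.trans inf_le_right)
  by_cases hb : y⁻¹ * w * y ∈ H
  · -- `b = b'`
    have hwy : w ∈ cj y H := by rw [mem_cj]; exact hb
    apply hwH
    refine c.norm_point hy hRy hwy ?_
    intro r hr
    rw [← hRw]
    exact conj_mem_cj hr
  · -- `b ≠ b'`
    have hE := h.toEPA
    have := h.faithful
    have hst : ∀ x : G, stabilizer G (x : G ⧸ H) = cj x H := by
      intro x
      have h1 : (x : G ⧸ H) = x • ((1 : G) : G ⧸ H) := by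
        rw [MulAction.Quotient.smul_coe, smul_eq_mul, mul_one]
      rw [h1, stab_smul, MulAction.stabilizer_quotient]
    have hst1 : stabilizer G ((1 : G) : G ⧸ H) = H := MulAction.stabilizer_quotient H
    have hne1 : ((y : G) : G ⧸ H) ≠ ((1 : G) : G ⧸ H) := by
      intro e
      apply hy
      have := QuotientGroup.eq.1 e.symm
      rwa [inv_one, one_mul] at this
    have hnebb : ((y : G) : G ⧸ H) ≠ ((w * y : G) : G ⧸ H) := by
      intro e
      apply hb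
      have := QuotientGroup.eq.1 e
      rwa [← mul_assoc] at this
    -- line through `b`, `b'` is the line of `M`
    have hl1 : stabilizer G ((y : G) : G ⧸ H) ⊓ stabilizer G ((w * y : G) : G ⧸ H) = M := by
      have h1 := hE.line_eq hne1 hnebb (by rw [hst1, hst, ← hMy]; rw [hMy]; exact inf_le_right)
        (by rw [hst1, hst, hst, ← hMy, ← hM1]; exact inf_le_right)
      rw [h1, hst1, hst, hMy]
    -- `a'` is on it
    have hla : M ≤ cj w H := by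
      -- `G_{a'b} = G_{a'b'}` by the conjugate of `G_ab'' = M`
      have hwy' : w⁻¹ * y ∉ H := by
        intro e
        apply hPy
        have e1 : cj y H = cj w H := by
          have : y = w * (w⁻¹ * y) := by group
          rw [this, cj_mul, cj_eq_self e]
        rw [e1]
        exact hPw
      have hM2 : H ⊓ cj (w⁻¹ * y) H = M := by
        apply c.uniq _ ⟨w⁻¹ * y, hwy', rfl⟩ (le_inf c.RH _)
        · intro e
          apply hPy
          have h2 := cj_mono (x := w) (e.trans inf_le_right)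
          rw [hPw', ← cj_mul, mul_inv_cancel_left] at h2
          exact h2
        · rw [cj_mul, ← hR1]
          exact cj_mono hRy
      -- `G_{a'b} = w M w⁻¹ = G_{a'b'}`
      have h3 : cj w H ⊓ cj y H = cj w M := by
        rw [← hM2, cj_inf, ← cj_mul w (w⁻¹ * y), mul_inv_cancel_left]
      have h4 : cj w H ⊓ cj (w * y) H = cj w M := by
        rw [hMy, cj_inf, ← cj_mul]
      -- the line through `b`, `b'` contains `a'`
      have hne2 : ((y : G) : G ⧸ H) ≠ ((w : G) : G ⧸ H) := by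
        intro e
        apply hPy
        rw [← hst, e, hst]
        exact hPw
      have h5 := hE.line_eq (a := ((w : G) : G ⧸ H)) hne2 hnebb (by rw [hst, hst]; exact inf_le_right)
        (by rw [hst, hst, hst, h3, ← h4]; exact inf_le_right)
      rw [hl1, hst, hst] at h5
      rw [h5]
      exact inf_le_left
    -- `G_aa' = M`
    have h6 : H ⊓ cj w H = M := by
      rcases h.two w hwH M (by
        have h7 := hE.line_eq (a := ((1 : G) : G ⧸ H)) (b := (y : G ⧸ H)) (c := ((1 : G) : G ⧸ H))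
          (d := ((w : G) : G ⧸ H)) hne1 (by
            intro e
            apply hwH
            have := QuotientGroup.eq.1 e
            rwa [inv_one, one_mul] at this) inf_le_left (by rw [hst1, hst, hst, ← hMy]; exact hla)
        rw [hst1, hst, hst, ← hMy] at h7
        exact h7.le) c.MH with h8 | h8
      · exact h8.symm
      · exfalso
        exact c.PM (h8 ▸ c.PH)
    exact c.PM (by rw [← h6]; exact le_inf c.PH hPw)

/-- every vector stabiliser is a conjugate of `M` -/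
theorem all_borel [Finite G] (v : VecB H P D W p) {w : G} (hw : w ∈ W) (hwD : w ∉ D) :
    ∃ g ∈ P, H ⊓ cj w H = cj g M := by
  obtain ⟨g, hg, hR⟩ := c.par _ (c.two_mem v hw hwD) (c.D_le v hw)
  have h1 : cj g (H ⊓ cj w H) = M := by
    apply c.uniq _ (cj_mem_twoSet (c.two_mem v hw hwD) (c.PH hg)) hR
    intro e
    apply c.claimC v hw hwD
    have h2 := cj_mono (x := g⁻¹) e
    rw [cj_inv_cj, cj_eq_self (P.inv_mem hg)] at h2
    exact h2.trans inf_le_right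
  exact ⟨g⁻¹, P.inv_mem hg, by rw [← h1, cj_inv_cj]⟩

theorem M_ne_bot [Finite G] : M ≠ ⊥ := by
  intro e
  have hR : R = ⊥ := le_bot_iff.1 (e ▸ c.RM)
  apply c.ep.ne
  rw [Subgroup.eq_bot_iff_forall]
  intro g hg
  have h1 := c.tits M c.M2 c.RM g hg (by
    intro r hr
    rw [hR, mem_bot] at hr ⊢
    rw [hr, mul_one, mul_inv_cancel])
  rw [e, mem_bot] at h1
  exact h1

/-- `N_H(M) = M` -/
theorem mem_M_of_cj [Finite G] {g : G} (hg : g ∈ H) (hgM : cj g M = M) : g ∈ M := by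
  obtain ⟨x, hx, e⟩ := c.M2
  have h1 : g ∈ cj x H := by
    refine c.ep.norm hx (X := M) e.le ?_ c.M_ne_bot hg ?_
    · intro m hm k hk
      rw [← e] at hm
      exact M.mul_mem (M.mul_mem hm hk) (M.inv_mem hm)
    · intro k hk
      rw [← hgM]
      exact conj_mem_cj hk
  rw [e]
  exact ⟨hg, h1⟩

/-- chambers of the panel: `R ≤ cj g M` iff `g ∈ M` -/
theorem mem_M_of_R [Finite G] {g : G} (hg : g ∈ P) (hR : R ≤ cj g M) : g ∈ M := by
  apply c.mem_M_of_cj (c.PH hg)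
  apply c.uniq _ (cj_mem_twoSet c.M2 (c.PH hg)) hR
  intro e
  apply c.PM
  have h2 := cj_mono (x := g⁻¹) e
  rwa [cj_inv_cj, cj_eq_self (P.inv_mem hg)] at h2

theorem cj_M_eq_iff [Finite G] {g k : G} (hg : g ∈ P) (hk : k ∈ P) : cj g M = cj k M ↔ g⁻¹ * k ∈ M := by
  constructor
  · intro e
    apply c.mem_M_of_cj (H.mul_mem (H.inv_mem (c.PH hg)) (c.PH hk))
    rw [cj_mul, ← e, cj_inv_cj]
  · intro h1
    have : k = g * (g⁻¹ * k) := by group
    rw [this, cj_mul, cj_eq_self h1]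

/-- a vector whose stabiliser is `M` -/
theorem exists_vec [Finite G] (v : VecB H P D W p) (hW : W ≠ D) : ∃ w ∈ W, w ∉ D ∧ H ⊓ cj w H = M := by
  obtain ⟨w, hw, hwD⟩ : ∃ w ∈ W, w ∉ D := by
    by_contra hcon
    push Not at hcon
    exact hW (le_antisymm hcon v.DW)
  obtain ⟨g, hg, e⟩ := c.all_borel v hw hwD
  refine ⟨g⁻¹ * w * g⁻¹⁻¹, v.Wn _ (P.inv_mem hg) w hw, ?_, ?_⟩
  · intro h1
    apply hwD
    have := c.Dn g hg _ h1
    have e2 : g * (g⁻¹ * w * g⁻¹⁻¹) * g⁻¹ = w := by group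
    rwa [e2] at this
  · rw [← cj_two (H.inv_mem (c.PH hg)), e, cj_inv_cj]

end PanelB

namespace VecB

variable {H P D W : Subgroup G} {p : ℕ} (v : VecB H P D W p)

include v

/-- the vectors fixed by `g` -/
theorem fix_mul {g : G} {w w' : G} (hw' : w' ∈ W) (h1 : w⁻¹ * (g * w * g⁻¹) ∈ D)
    (h2 : w'⁻¹ * (g * w' * g⁻¹) ∈ D) : (w * w')⁻¹ * (g * (w * w') * g⁻¹) ∈ D := by
  have h3 := v.WD w'⁻¹ (W.inv_mem hw') _ h1
  have e : (w * w')⁻¹ * (g * (w * w') * g⁻¹) = (w'⁻¹ * (w⁻¹ * (g * w * g⁻¹)) * w'⁻¹⁻¹) * (w'⁻¹ * (g * w' * g⁻¹)) := by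
    group
  rw [e]
  exact D.mul_mem h3 h2

theorem fix_inv {g : G} {w : G} (hw : w ∈ W) (h1 : w⁻¹ * (g * w * g⁻¹) ∈ D) :
    w⁻¹⁻¹ * (g * w⁻¹ * g⁻¹) ∈ D := by
  have h3 := v.WD w hw _ (D.inv_mem h1)
  have e : w⁻¹⁻¹ * (g * w⁻¹ * g⁻¹) = w * (w⁻¹ * (g * w * g⁻¹))⁻¹ * w⁻¹ := by group
  rw [e]
  exact h3

/-- the vectors fixed by all elements of `R` -/
def fixR (v : VecB H P D W p) (R : Subgroup G) (hRP : R ≤ P) (hPH : P ≤ H) : Subgroup G where
  carrier := {w | w ∈ W ∧ R ≤ cj w H}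
  one_mem' := ⟨one_mem _, by rw [cj_one]; exact hRP.trans hPH⟩
  mul_mem' := by
    rintro w w' ⟨h1, h2⟩ ⟨h3, h4⟩
    refine ⟨W.mul_mem h1 h3, fun r hr => ?_⟩
    rw [← v.stab_iff hPH (W.mul_mem h1 h3) (hRP hr)]
    exact v.fix_mul h3 ((v.stab_iff hPH h1 (hRP hr)).2 (h2 hr)) ((v.stab_iff hPH h3 (hRP hr)).2 (h4 hr))
  inv_mem' := by
    rintro w ⟨h1, h2⟩
    refine ⟨W.inv_mem h1, fun r hr => ?_⟩
    rw [← v.stab_iff hPH (W.inv_mem h1) (hRP hr)]
    exact v.fix_inv h1 ((v.stab_iff hPH h1 (hRP hr)).2 (h2 hr))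

end VecB

namespace PanelB

variable {H R P D M W : Subgroup G} {p : ℕ} (c : PanelB H R P D M p)

include c

/-- the action on vectors: `M_(g w g⁻¹) = g M_w g⁻¹` -/
theorem stab_conj {g w : G} (hg : g ∈ P) : H ⊓ cj (g * w * g⁻¹) H = cj g (H ⊓ cj w H) :=
  (cj_two (c.PH hg)).symm

theorem conj_notMem {g w : G} (hg : g ∈ P) (hwD : w ∉ D) : g * w * g⁻¹ ∉ D := by
  intro h1
  apply hwD
  have := c.Dn g⁻¹ (P.inv_mem hg) _ h1
  have e2 : g⁻¹ * (g * w * g⁻¹) * g⁻¹⁻¹ = w := by group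
  rwa [e2] at this

/-- **TORUS** (helper918): for `s ∈ P`, `s ∉ M`, the stabiliser in `P` of the chambers `1`, `s` fixes a third one. -/
theorem torus [Finite G] (v : VecB H P D W p) (hW : W ≠ D) {s : G} (hs : s ∈ P) (hsM : s ∉ M) :
    ∃ g ∈ P, g ∉ M ∧ s⁻¹ * g ∉ M ∧ P ⊓ M ⊓ cj s M ≤ cj g M := by
  obtain ⟨w₀, hw₀, hw₀D, hM₀⟩ := c.exists_vec v hW
  set w₁ := s * w₀ * s⁻¹ with hw₁def
  have hw₁ : w₁ ∈ W := v.Wn s hs w₀ hw₀
  have hw₁D : w₁ ∉ D := c.conj_notMem hs hw₀D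
  have hM₁ : H ⊓ cj w₁ H = cj s M := by rw [hw₁def, c.stab_conj hs, hM₀]
  have hfix : ∀ w ∈ W, ∀ g ∈ P, (w⁻¹ * (g * w * g⁻¹) ∈ D ↔ g ∈ H ⊓ cj w H) := by
    intro w hw g hg
    rw [v.stab_iff c.PH hw hg]
    exact ⟨fun h1 => ⟨c.PH hg, h1⟩, fun h1 => h1.2⟩
  have hRs : ¬ R ≤ cj s M := fun e => hsM (c.mem_M_of_R hs e)
  have hRP := c.RP
  -- `w₀ w₁ ∉ D`
  have hw₂D : w₀ * w₁ ∉ D := by
    intro e
    apply hRs
    intro r hr
    rw [← hM₁, ← hfix w₁ hw₁ r (hRP hr)]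
    have h1 : w₀⁻¹ * (r * w₀ * r⁻¹) ∈ D := (hfix w₀ hw₀ r (hRP hr)).2 (by rw [hM₀]; exact c.RM hr)
    have h2 : (w₀ * w₁)⁻¹ * (r * (w₀ * w₁) * r⁻¹) ∈ D :=
      D.mul_mem (D.inv_mem e) (c.Dn r (hRP hr) _ e)
    have h3 := v.fix_mul (w := w₀⁻¹) (w' := w₀ * w₁) (g := r) (W.mul_mem hw₀ hw₁) (v.fix_inv hw₀ h1) h2
    rwa [inv_mul_cancel_left] at h3
  have hw₂ : w₀ * w₁ ∈ W := W.mul_mem hw₀ hw₁
  obtain ⟨g, hg, hM₂⟩ := c.all_borel v hw₂ hw₂D
  refine ⟨g, hg, ?_, ?_, ?_⟩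
  · -- `g ∈ M`: then `P ∩ M` fixes `w₀`, `w₀ w₁`, so `w₁`
    intro hgM
    rw [cj_eq_self hgM] at hM₂
    apply hRs
    intro r hr
    rw [← hM₁, ← hfix w₁ hw₁ r (hRP hr)]
    have h1 : w₀⁻¹ * (r * w₀ * r⁻¹) ∈ D := (hfix w₀ hw₀ r (hRP hr)).2 (by rw [hM₀]; exact c.RM hr)
    have h2 : (w₀ * w₁)⁻¹ * (r * (w₀ * w₁) * r⁻¹) ∈ D :=
      (hfix _ hw₂ r (hRP hr)).2 (by rw [hM₂]; exact c.RM hr)
    have h3 := v.fix_mul (w := w₀⁻¹) (w' := w₀ * w₁) (g := r) hw₂ (v.fix_inv hw₀ h1) h2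
    rwa [inv_mul_cancel_left] at h3
  · -- `g ∈ s M`
    intro hgM
    have hgs : cj g M = cj s M := ((c.cj_M_eq_iff hs hg).2 hgM).symm
    rw [hgs] at hM₂
    have h0 : ∀ m ∈ P ⊓ cj s M, m ∈ M := by
      rintro m ⟨hmP, hm⟩
      rw [← hM₀, ← hfix w₀ hw₀ m hmP]
      have h1 : w₁⁻¹ * (m * w₁ * m⁻¹) ∈ D := (hfix w₁ hw₁ m hmP).2 (by rw [hM₁]; exact hm)
      have h2 : (w₀ * w₁)⁻¹ * (m * (w₀ * w₁) * m⁻¹) ∈ D := (hfix _ hw₂ m hmP).2 (by rw [hM₂]; exact hm)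
      have h3 := v.fix_mul (w := w₀ * w₁) (w' := w₁⁻¹) (g := m) (W.inv_mem hw₁) h2 (v.fix_inv hw₁ h1)
      rwa [mul_inv_cancel_right] at h3
    have h1 : R ≤ cj s⁻¹ M := by
      intro r hr
      rw [mem_cj, inv_inv]
      apply h0
      refine ⟨P.mul_mem (P.mul_mem hs (hRP hr)) (P.inv_mem hs), ?_⟩
      exact conj_mem_cj (c.RM hr)
    exact hsM (by have := M.inv_mem (c.mem_M_of_R (P.inv_mem hs) h1); rwa [inv_inv] at this)
  · rintro m ⟨⟨hmP, hmM⟩, hms⟩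
    rw [← hM₂, ← hfix _ hw₂ m hmP]
    exact v.fix_mul hw₁ ((hfix w₀ hw₀ m hmP).2 (by rw [hM₀]; exact hmM))
      ((hfix w₁ hw₁ m hmP).2 (by rw [hM₁]; exact hms))

/-- the kernel on the chambers acts trivially -/
theorem ker_trivial [Finite G] (v : VecB H P D W p) {k : G} (hk : k ∈ P) (hkM : ∀ g ∈ P, k ∈ cj g M) {w : G}
    (hw : w ∈ W) : w⁻¹ * (k * w * k⁻¹) ∈ D := by
  by_cases hwD : w ∈ D
  · exact D.mul_mem (D.inv_mem hwD) (c.Dn k hk w hwD)
  · rw [v.stab_iff c.PH hw hk]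
    obtain ⟨g, hg, e⟩ := c.all_borel v hw hwD
    have h1 := hkM g hg
    rw [← e] at h1
    exact h1.2

/-- an element fixing no chamber fixes no vector -/
theorem free [Finite G] (v : VecB H P D W p) {k : G} (hk : k ∈ P) (hkM : ∀ g ∈ P, k ∉ cj g M) {w : G}
    (hw : w ∈ W) (h1 : w⁻¹ * (k * w * k⁻¹) ∈ D) : w ∈ D := by
  by_contra hwD
  rw [v.stab_iff c.PH hw hk] at h1
  obtain ⟨g, hg, e⟩ := c.all_borel v hw hwD
  exact hkM g hg (by rw [← e]; exact ⟨c.PH hk, h1⟩)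

/-- **COUNT**: `|W| - |D| = |P : P ∩ M| (|W_R| - |D|)`, `W_R/D = C_(W/D)(R)` -/
theorem count [Finite G] (v : VecB H P D W p) :
    Nat.card W - Nat.card D = M.relIndex P * (Nat.card (v.fixR R c.RP c.PH) - Nat.card D) := by
  classical
  set WR := v.fixR R c.RP c.PH with hWR
  have hDWR : D ≤ WR := by
    intro d hd
    refine ⟨v.DW hd, fun r hr => ?_⟩
    rw [← v.stab_iff c.PH (v.DW hd) (c.RP hr)]
    exact D.mul_mem (D.inv_mem hd) (c.Dn r (c.RP hr) d hd)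
  have hmemR : ∀ w : G, w ∉ D → (w ∈ WR ↔ w ∈ W ∧ H ⊓ cj w H = M) := by
    intro w hwD
    constructor
    · rintro ⟨h1, h2⟩
      refine ⟨h1, c.uniq _ (c.two_mem v h1 hwD) (le_inf c.RH h2) fun e => c.claimC v h1 hwD (e.trans inf_le_right)⟩
    · rintro ⟨h1, h2⟩
      refine ⟨h1, ?_⟩
      have := c.RM
      rw [← h2] at this
      exact this.trans inf_le_right
  have hcd : ∀ X : Subgroup G, D ≤ X → Nat.card X - Nat.card D = Nat.card {w : G // w ∈ X ∧ w ∉ D} := by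
    intro X hDX
    have e1 : Nat.card X = Set.ncard (X : Set G) := rfl
    have e2 : Nat.card D = Set.ncard (D : Set G) := rfl
    have e3 : Nat.card {w : G // w ∈ X ∧ w ∉ D} = Set.ncard ((X : Set G) \ (D : Set G)) := rfl
    rw [e1, e2, e3, Set.ncard_sdiff hDX (Set.toFinite _)]
  rw [hcd W v.DW, hcd WR hDWR, Subgroup.relIndex, Subgroup.index, ← Nat.card_prod]
  symm
  have hout : ∀ q : P ⧸ M.subgroupOf P, ∀ w : {w : G // w ∈ WR ∧ w ∉ D},
      (q.out : G) * w.1 * (q.out : G)⁻¹ ∈ W ∧ (q.out : G) * w.1 * (q.out : G)⁻¹ ∉ D := by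
    intro q w
    exact ⟨v.Wn _ q.out.2 _ ((hmemR w.1 w.2.2).1 w.2.1).1, c.conj_notMem q.out.2 w.2.2⟩
  apply Nat.card_congr
  refine Equiv.ofBijective (fun x => ⟨(x.1.out : G) * x.2.1 * (x.1.out : G)⁻¹, hout x.1 x.2⟩) ⟨?_, ?_⟩
  · rintro ⟨q, w⟩ ⟨q', w'⟩ he
    have e1 : (q.out : G) * w.1 * (q.out : G)⁻¹ = (q'.out : G) * w'.1 * (q'.out : G)⁻¹ := Subtype.ext_iff.1 he
    have ha := ((hmemR w.1 w.2.2).1 w.2.1).2
    have hb := ((hmemR w'.1 w'.2.2).1 w'.2.1).2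
    have h1 : cj (q.out : G) M = cj (q'.out : G) M := by
      have h5 : cj (q.out : G) (H ⊓ cj w.1 H) = cj (q'.out : G) (H ⊓ cj w'.1 H) := by
        rw [← c.stab_conj q.out.2, ← c.stab_conj q'.out.2, e1]
      rwa [ha, hb] at h5
    have h2 := (c.cj_M_eq_iff q.out.2 q'.out.2).1 h1
    have h3 : q = q' := by
      rw [← q.out_eq', ← q'.out_eq']
      exact QuotientGroup.eq.2 h2
    subst h3
    congr 1
    apply Subtype.ext
    have h4 := mul_left_cancel (mul_right_cancel e1)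
    exact h4
  · rintro ⟨w, hw, hwD⟩
    obtain ⟨g, hg, e⟩ := c.all_borel v hw hwD
    let q : P ⧸ M.subgroupOf P := ((⟨g, hg⟩ : P) : P ⧸ M.subgroupOf P)
    have h1 : (q.out : G)⁻¹ * g ∈ M := by
      have h2 : (QuotientGroup.mk q.out : P ⧸ M.subgroupOf P) = QuotientGroup.mk (⟨g, hg⟩ : P) :=
        QuotientGroup.out_eq' _
      have h3 := QuotientGroup.eq.1 h2
      exact h3
    have h2 : cj (q.out : G) M = cj g M := (c.cj_M_eq_iff q.out.2 hg).2 h1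
    have hw' : (q.out : G)⁻¹ * w * (q.out : G)⁻¹⁻¹ ∉ D := c.conj_notMem (P.inv_mem q.out.2) hwD
    refine ⟨⟨q, ⟨(q.out : G)⁻¹ * w * (q.out : G)⁻¹⁻¹, ?_, hw'⟩⟩, ?_⟩
    · rw [hmemR _ hw']
      refine ⟨v.Wn _ (P.inv_mem q.out.2) w hw, ?_⟩
      rw [c.stab_conj (P.inv_mem q.out.2), e, ← h2, cj_inv_cj]
    · apply Subtype.ext
      show (q.out : G) * ((q.out : G)⁻¹ * w * (q.out : G)⁻¹⁻¹) * (q.out : G)⁻¹ = w
      group

end PanelB

end Cfsg.Agent.H284
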