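import Cfsg.Agent.H284.EPO.CaseB

/-!
# The vector space `V = W/D` of `VecB` and its chambers (helper284)

`v.Vec` is `W ⧸ D`, a commutative group of exponent `p`, `v.act : P →* MulAut v.Vec`,
`v.fix S = C_V(S ∩ P)`; the chamber `g (P ∩ M)` of `P` has the subgroup `V_c = v.fix (cj g R) = v.fix (cj g M)`.
-/

set_option autoImplicit false
set_option linter.unusedSectionVars false

namespace Cfsg.Agent.H284

open MulAction Subgroup

variable {G : Type*} [Group G]

namespace VecB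

variable {H P D W : Subgroup G} {p : ℕ}

theorem normal (v : VecB H P D W p) : (D.subgroupOf W).Normal := by
  constructor
  intro d hd g
  exact v.WD g g.2 _ hd

/-- the quotient `W ⧸ D` -/
def Vec (_ : VecB H P D W p) : Type _ := W ⧸ D.subgroupOf W

variable (v : VecB H P D W p)

instance : CommGroup v.Vec :=
  let i : Group (W ⧸ D.subgroupOf W) := @QuotientGroup.Quotient.group _ _ (D.subgroupOf W) v.normal
  { i with
    mul_comm := by
      intro a b
      have := v.normal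
      induction a using QuotientGroup.induction_on with
      | H a =>
        induction b using QuotientGroup.induction_on with
        | H b =>
          refine QuotientGroup.eq.2 ?_
          have h1 := v.comm (b : G)⁻¹ (W.inv_mem b.2) (a : G)⁻¹ (W.inv_mem a.2)
          show ((a * b : W) : G)⁻¹ * ((b * a : W) : G) ∈ D
          have e : ((a * b : W) : G)⁻¹ * ((b * a : W) : G) = (b : G)⁻¹ * (a : G)⁻¹ * (b : G)⁻¹⁻¹ * (a : G)⁻¹⁻¹ := by
            simp only [Subgroup.coe_mul]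
            group
          rw [e]
          exact h1 }

/-- the projection -/
def vec : W →* v.Vec :=
  have := v.normal
  QuotientGroup.mk' (D.subgroupOf W)

theorem vec_surjective : Function.Surjective v.vec := by
  have := v.normal
  exact QuotientGroup.mk'_surjective _

theorem vec_eq_iff {w w' : W} : v.vec w = v.vec w' ↔ (w : G)⁻¹ * w' ∈ D := by
  have := v.normal
  exact QuotientGroup.eq

theorem vec_eq_one {w : W} : v.vec w = 1 ↔ (w : G) ∈ D := by
  have := v.normal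
  exact QuotientGroup.eq_one_iff w

theorem vec_coe_ne_one {w : W} : v.vec w ≠ 1 ↔ (w : G) ∉ D := not_congr v.vec_eq_one

instance [Finite G] : Finite v.Vec := inferInstanceAs (Finite (W ⧸ D.subgroupOf W))

theorem card_vec : Nat.card v.Vec = D.relIndex W := rfl

theorem card_vec_mul : Nat.card v.Vec * Nat.card D = Nat.card W := by
  have h1 := Subgroup.card_mul_index (D.subgroupOf W)
  have h2 : Nat.card (D.subgroupOf W) = Nat.card D :=
    Nat.card_congr (Subgroup.subgroupOfEquivOfLe v.DW).toEquiv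
  rw [h2, mul_comm] at h1
  exact h1

theorem pow_eq_one (x : v.Vec) : x ^ p = 1 := by
  obtain ⟨w, rfl⟩ := v.vec_surjective x
  rw [← map_pow, vec_eq_one]
  exact v.pow w w.2

theorem isPGroup : IsPGroup p v.Vec := fun x => ⟨1, by rw [pow_one]; exact v.pow_eq_one x⟩

theorem nontrivial (hW : W ≠ D) : Nontrivial v.Vec := by
  obtain ⟨w, hw, hwD⟩ : ∃ w ∈ W, w ∉ D := by
    by_contra hcon
    push Not at hcon
    exact hW (le_antisymm hcon v.DW)
  exact ⟨⟨v.vec ⟨w, hw⟩, 1, v.vec_coe_ne_one.2 hwD⟩⟩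

/-- conjugation by `g ∈ P` on `W` -/
def conjW (g : P) : MulAut W where
  toFun w := ⟨(g : G) * w * (g : G)⁻¹, v.Wn g g.2 w w.2⟩
  invFun w := ⟨(g : G)⁻¹ * w * (g : G), by
    have := v.Wn (g : G)⁻¹ (P.inv_mem g.2) w w.2
    rwa [inv_inv] at this⟩
  left_inv w := Subtype.ext (by group)
  right_inv w := Subtype.ext (by group)
  map_mul' w w' := Subtype.ext (by simp only [Subgroup.coe_mul]; group)

end VecB

section Act

variable {H P D W : Subgroup G} {p : ℕ} (v : VecB H P D W p) (hD : ∀ g ∈ P, ∀ d ∈ D, g * d * g⁻¹ ∈ D)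

namespace VecB

/-- one element of `P` acting on `V` -/
def act₀ (g : P) : v.Vec →* v.Vec :=
  have := v.normal
  QuotientGroup.map (D.subgroupOf W) (D.subgroupOf W) (v.conjW g).toMonoidHom (fun _ hw => hD g g.2 _ hw)

theorem act₀_vec (g : P) (w : W) : v.act₀ hD g (v.vec w) = v.vec (v.conjW g w) := rfl

/-- the action of `P` on `V` -/
def act : P →* MulAut v.Vec where
  toFun g :=
    { v.act₀ hD g with
      invFun := v.act₀ hD g⁻¹
      left_inv := by
        intro x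
        obtain ⟨w, rfl⟩ := v.vec_surjective x
        show v.act₀ hD g⁻¹ (v.act₀ hD g (v.vec w)) = v.vec w
        rw [act₀_vec, act₀_vec]
        congr 1
        apply Subtype.ext
        show ((g⁻¹ : P) : G) * ((g : G) * w * (g : G)⁻¹) * ((g⁻¹ : P) : G)⁻¹ = w
        rw [Subgroup.coe_inv]
        group
      right_inv := by
        intro x
        obtain ⟨w, rfl⟩ := v.vec_surjective x
        show v.act₀ hD g (v.act₀ hD g⁻¹ (v.vec w)) = v.vec w
        rw [act₀_vec, act₀_vec]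
        congr 1
        apply Subtype.ext
        show (g : G) * (((g⁻¹ : P) : G) * w * ((g⁻¹ : P) : G)⁻¹) * (g : G)⁻¹ = w
        rw [Subgroup.coe_inv]
        group }
  map_one' := by
    ext x
    obtain ⟨w, rfl⟩ := v.vec_surjective x
    show v.act₀ hD 1 (v.vec w) = v.vec w
    rw [act₀_vec]
    congr 1
    apply Subtype.ext
    show ((1 : P) : G) * w * ((1 : P) : G)⁻¹ = w
    rw [Subgroup.coe_one]
    group
  map_mul' g k := by
    ext x
    obtain ⟨w, rfl⟩ := v.vec_surjective x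
    show v.act₀ hD (g * k) (v.vec w) = v.act₀ hD g (v.act₀ hD k (v.vec w))
    rw [act₀_vec, act₀_vec, act₀_vec]
    congr 1
    apply Subtype.ext
    show ((g * k : P) : G) * w * ((g * k : P) : G)⁻¹ = (g : G) * ((k : G) * w * (k : G)⁻¹) * (g : G)⁻¹
    rw [Subgroup.coe_mul]
    group

theorem act_vec (g : P) (w : W) : v.act hD g (v.vec w) = v.vec (v.conjW g w) := rfl

theorem act_fix_iff (hPH : P ≤ H) (g : P) (w : W) : v.act hD g (v.vec w) = v.vec w ↔ (g : G) ∈ cj (w : G) H := by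
  rw [act_vec, eq_comm, vec_eq_iff, ← v.stab_iff hPH w.2 g.2]
  rfl

/-- the fixed vectors of `S ∩ P` -/
def fix (S : Subgroup G) : Subgroup v.Vec where
  carrier := {x | ∀ g : P, (g : G) ∈ S → v.act hD g x = x}
  one_mem' := fun _ _ => map_one _
  mul_mem' := fun h1 h2 g hg => by rw [map_mul, h1 g hg, h2 g hg]
  inv_mem' := fun h1 g hg => by rw [map_inv, h1 g hg]

theorem mem_fix {S : Subgroup G} {x : v.Vec} : x ∈ v.fix hD S ↔ ∀ g : P, (g : G) ∈ S → v.act hD g x = x := Iff.rfl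

theorem fix_anti {S S' : Subgroup G} (h : S ≤ S') : v.fix hD S' ≤ v.fix hD S := fun _ hx g hg => hx g (h hg)

theorem vec_mem_fix (hPH : P ≤ H) {S : Subgroup G} {w : W} : v.vec w ∈ v.fix hD S ↔ S ⊓ P ≤ cj (w : G) H := by
  constructor
  · rintro h1 g ⟨h2, h3⟩
    exact (v.act_fix_iff hD hPH ⟨g, h3⟩ w).1 (h1 ⟨g, h3⟩ h2)
  · intro h1 g hg
    exact (v.act_fix_iff hD hPH g w).2 (h1 ⟨hg, g.2⟩)

theorem act_mem_fix {S : Subgroup G} {x : v.Vec} (g : P) :
    v.act hD g x ∈ v.fix hD (cj (g : G) S) ↔ x ∈ v.fix hD S := by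
  constructor
  · intro h1 k hk
    have h2 := h1 (g * k * g⁻¹) (by
      show (g : G) * k * (g : G)⁻¹ ∈ cj (g : G) S
      exact conj_mem_cj hk)
    rw [← MulAut.mul_apply, ← map_mul, inv_mul_cancel_right, map_mul, MulAut.mul_apply] at h2
    exact (v.act hD g).injective h2
  · intro h1 k hk
    have h2 := h1 (g⁻¹ * k * g) (by
      show (g : G)⁻¹ * k * (g : G) ∈ S
      exact mem_cj.1 hk)
    have h3 : v.act hD g (v.act hD (g⁻¹ * k * g) x) = v.act hD g x := by rw [h2]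
    rw [← MulAut.mul_apply, ← map_mul] at h3
    have e : g * (g⁻¹ * k * g) = k * g := by group
    rw [e, map_mul, MulAut.mul_apply] at h3
    exact h3

end VecB

end Act

namespace PanelB

variable {H R P D M W : Subgroup G} {p : ℕ} (c : PanelB H R P D M p) (v : VecB H P D W p)

include c

/-- the stabiliser of a nonzero vector in the subgroup `V_c`, `c = g (P ∩ M)` -/
theorem vec_mem_chamber [Finite G] {g : G} (hg : g ∈ P) {w : W} (hwD : (w : G) ∉ D) :
    v.vec w ∈ v.fix c.Dn (cj g R) ↔ H ⊓ cj (w : G) H = cj g M := by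
  have hRP : cj g R ⊓ P = cj g R := by
    apply inf_eq_left.2
    have h1 := cj_mono (x := g) c.RP
    rwa [cj_eq_self hg] at h1
  rw [v.vec_mem_fix c.Dn c.PH, hRP]
  constructor
  · intro h1
    have h2 : cj g⁻¹ (H ⊓ cj (w : G) H) = M := by
      apply c.uniq _ (cj_mem_twoSet (c.two_mem v w.2 hwD) (H.inv_mem (c.PH hg)))
      · rw [← cj_inv_cj g R]
        apply cj_mono
        refine le_inf ?_ h1
        have h3 := cj_mono (x := g) c.RH
        rwa [cj_eq_self (c.PH hg)] at h3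
      · intro e
        apply c.claimC v w.2 hwD
        have h3 := cj_mono (x := g) e
        rw [cj_cj_inv, cj_eq_self hg] at h3
        exact h3.trans inf_le_right
    rw [← h2, cj_cj_inv]
  · intro h1
    have h2 := cj_mono (x := g) c.RM
    rw [← h1] at h2
    exact h2.trans inf_le_right

/-- the chamber group fixes `V_c` -/
theorem fix_M [Finite G] {g : G} (hg : g ∈ P) : v.fix c.Dn (cj g M) = v.fix c.Dn (cj g R) := by
  apply le_antisymm (v.fix_anti c.Dn (cj_mono c.RM))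
  intro x hx
  obtain ⟨w, rfl⟩ := v.vec_surjective x
  by_cases hwD : (w : G) ∈ D
  · rw [v.vec_eq_one.2 hwD]
    exact one_mem _
  · rw [c.vec_mem_chamber v hg hwD] at hx
    rw [v.vec_mem_fix c.Dn c.PH, ← hx]
    exact inf_le_left.trans inf_le_right

/-- distinct chambers have disjoint vectors -/
theorem chamber_inf [Finite G] {g k : G} (hg : g ∈ P) (hk : k ∈ P) (hgk : g⁻¹ * k ∉ M) :
    v.fix c.Dn (cj g R) ⊓ v.fix c.Dn (cj k R) = ⊥ := by
  rw [Subgroup.eq_bot_iff_forall]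
  rintro x ⟨h1, h2⟩
  obtain ⟨w, rfl⟩ := v.vec_surjective x
  rw [v.vec_eq_one]
  by_contra hwD
  have h3 := (c.vec_mem_chamber v hg hwD).1 h1
  have h4 := (c.vec_mem_chamber v hk hwD).1 h2
  exact hgk ((c.cj_M_eq_iff hg hk).1 (h3.symm.trans h4))

/-- every vector lies in some `V_c` -/
theorem exists_chamber [Finite G] (x : v.Vec) : ∃ g ∈ P, x ∈ v.fix c.Dn (cj g R) := by
  obtain ⟨w, rfl⟩ := v.vec_surjective x
  by_cases hwD : (w : G) ∈ D
  · rw [v.vec_eq_one.2 hwD]
    exact ⟨1, one_mem _, one_mem _⟩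
  · obtain ⟨g, hg, e⟩ := c.all_borel v w.2 hwD
    exact ⟨g, hg, (c.vec_mem_chamber v hg hwD).2 e⟩

/-- `V_c ≠ 1` -/
theorem chamber_ne_bot [Finite G] (hW : W ≠ D) {g : G} (hg : g ∈ P) : v.fix c.Dn (cj g R) ≠ ⊥ := by
  obtain ⟨w, hw, hwD, e⟩ := c.exists_vec v hW
  intro hb
  have h1 : v.vec ⟨w, hw⟩ ∈ v.fix c.Dn (cj (1 : G) R) :=
    (c.vec_mem_chamber v (one_mem _) (w := ⟨w, hw⟩) hwD).2 (by rw [cj_one]; exact e)
  rw [cj_one] at h1
  have h2 := (v.act_mem_fix c.Dn (⟨g, hg⟩ : P)).2 h1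
  have h3 : v.act c.Dn ⟨g, hg⟩ (v.vec ⟨w, hw⟩) ∈ v.fix c.Dn (cj g R) := h2
  rw [hb, mem_bot] at h3
  have h4 : v.vec ⟨w, hw⟩ = 1 := (v.act c.Dn ⟨g, hg⟩).injective (by rw [h3, map_one])
  exact hwD (v.vec_eq_one.1 h4)

/-- `P` fixes no nonzero vector -/
theorem fix_P [Finite G] : v.fix c.Dn P = ⊥ := by
  rw [Subgroup.eq_bot_iff_forall]
  intro x hx
  obtain ⟨w, rfl⟩ := v.vec_surjective x
  rw [v.vec_eq_one]
  by_contra hwD
  rw [v.vec_mem_fix c.Dn c.PH, inf_idem] at hx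
  exact c.claimC v w.2 hwD hx

/-- a nonzero vector of `V_c` fixed by `k ∈ P` forces `k` to fix the chamber `c` -/
theorem mem_of_act_eq [Finite G] {g k : G} (hg : g ∈ P) (hk : k ∈ P) {x : v.Vec} (hx1 : x ≠ 1)
    (hx : x ∈ v.fix c.Dn (cj g R)) (hkx : v.act c.Dn ⟨k, hk⟩ x = x) : k ∈ cj g M := by
  obtain ⟨w, rfl⟩ := v.vec_surjective x
  have hwD : (w : G) ∉ D := v.vec_coe_ne_one.1 hx1
  have h1 := (c.vec_mem_chamber v hg hwD).1 hx
  have h2 := (v.act_fix_iff c.Dn c.PH ⟨k, hk⟩ w).1 hkx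
  rw [← h1]
  exact ⟨c.PH hk, h2⟩

/-- all `V_c` have the same order -/
theorem card_chamber [Finite G] {g : G} (hg : g ∈ P) :
    Nat.card (v.fix c.Dn (cj g R)) = Nat.card (v.fix c.Dn R) := by
  symm
  apply Nat.card_congr
  refine Equiv.ofBijective (fun x => ⟨v.act c.Dn ⟨g, hg⟩ x.1, ?_⟩) ⟨?_, ?_⟩
  · exact (v.act_mem_fix c.Dn (⟨g, hg⟩ : P)).2 x.2
  · intro x y h1
    exact Subtype.ext ((v.act c.Dn ⟨g, hg⟩).injective (Subtype.ext_iff.1 h1))
  · rintro ⟨y, hy⟩
    refine ⟨⟨(v.act c.Dn ⟨g, hg⟩).symm y, ?_⟩, ?_⟩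
    · have h1 := (v.act_mem_fix (S := R) c.Dn (⟨g, hg⟩ : P) (x := (v.act c.Dn ⟨g, hg⟩).symm y)).1
      apply h1
      rw [MulEquiv.apply_symm_apply]
      exact hy
    · apply Subtype.ext
      exact MulEquiv.apply_symm_apply _ _

/-- **the fixed vectors of `S ≤ P`** are the union of the `V_c`, `c` a chamber fixed by `S` -/
theorem mem_fix_iff_chamber [Finite G] {S : Subgroup G} (hS : S ≤ P) {g : G} (hg : g ∈ P) {x : v.Vec} (hx1 : x ≠ 1)
    (hx : x ∈ v.fix c.Dn (cj g R)) : x ∈ v.fix c.Dn S ↔ S ≤ cj g M := by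
  obtain ⟨w, rfl⟩ := v.vec_surjective x
  have hwD : (w : G) ∉ D := v.vec_coe_ne_one.1 hx1
  have h1 := (c.vec_mem_chamber v hg hwD).1 hx
  rw [v.vec_mem_fix c.Dn c.PH, inf_eq_left.2 hS, ← h1]
  exact ⟨fun h2 => le_inf (hS.trans c.PH) h2, fun h2 => h2.trans inf_le_right⟩

/-- **COUNT** of the fixed vectors of `S ≤ P` -/
theorem card_fix [Finite G] {S : Subgroup G} (hS : S ≤ P) :
    Nat.card (v.fix c.Dn S) - 1 =
      Set.ncard {q : P ⧸ M.subgroupOf P | S ≤ cj (q.out : G) M} * (Nat.card (v.fix c.Dn R) - 1) := by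
  classical
  have hcd : ∀ X : Subgroup v.Vec, Nat.card X - 1 = Nat.card {x : v.Vec // x ∈ X ∧ x ≠ 1} := by
    intro X
    have e1 : Nat.card X = Set.ncard (X : Set v.Vec) := rfl
    have e3 : Nat.card {x : v.Vec // x ∈ X ∧ x ≠ 1} = Set.ncard ((X : Set v.Vec) \ {1}) := rfl
    rw [e1, e3, Set.ncard_sdiff (Set.singleton_subset_iff.2 (one_mem X)) (Set.toFinite _), Set.ncard_singleton]
  rw [hcd, hcd, ← Nat.card_coe_set_eq, ← Nat.card_prod]
  symm
  have hmem : ∀ q : P ⧸ M.subgroupOf P, ∀ x : v.Vec, x ∈ v.fix c.Dn R →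
      v.act c.Dn q.out x ∈ v.fix c.Dn (cj (q.out : G) R) := fun q x hx => (v.act_mem_fix c.Dn q.out).2 hx
  have hne : ∀ q : P ⧸ M.subgroupOf P, ∀ x : v.Vec, x ≠ 1 → v.act c.Dn q.out x ≠ 1 := by
    intro q x hx e
    exact hx ((v.act c.Dn q.out).injective (by rw [e, map_one]))
  apply Nat.card_congr
  refine Equiv.ofBijective (fun y => ⟨v.act c.Dn y.1.1.out y.2.1, ?_, ?_⟩) ⟨?_, ?_⟩
  · exact (c.mem_fix_iff_chamber v hS y.1.1.out.2 (hne _ _ y.2.2.2) (hmem _ _ y.2.2.1)).2 y.1.2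
  · exact hne _ _ y.2.2.2
  · rintro ⟨⟨q, hq⟩, ⟨x, hx, hx1⟩⟩ ⟨⟨q', hq'⟩, ⟨x', hx', hx1'⟩⟩ he
    have e1 : v.act c.Dn q.out x = v.act c.Dn q'.out x' := Subtype.ext_iff.1 he
    have h1 : q = q' := by
      by_contra hqq
      have h2 : (q.out : G)⁻¹ * (q'.out : G) ∉ M := by
        intro h3
        apply hqq
        rw [← q.out_eq', ← q'.out_eq']
        exact QuotientGroup.eq.2 h3
      have h4 := c.chamber_inf v q.out.2 q'.out.2 h2
      have h5 : v.act c.Dn q.out x ∈ v.fix c.Dn (cj (q.out : G) R) ⊓ v.fix c.Dn (cj (q'.out : G) R) :=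
        ⟨hmem _ _ hx, by rw [e1]; exact hmem _ _ hx'⟩
      rw [h4, mem_bot] at h5
      exact hne _ _ hx1 h5
    subst h1
    have h6 := (v.act c.Dn q.out).injective e1
    subst h6
    rfl
  · rintro ⟨x, hx, hx1⟩
    obtain ⟨g, hg, hxg⟩ := c.exists_chamber v x
    let q : P ⧸ M.subgroupOf P := ((⟨g, hg⟩ : P) : P ⧸ M.subgroupOf P)
    have h1 : (q.out : G)⁻¹ * g ∈ M := by
      have h2 : (QuotientGroup.mk q.out : P ⧸ M.subgroupOf P) = QuotientGroup.mk (⟨g, hg⟩ : P) :=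
        QuotientGroup.out_eq' _
      have h3 := QuotientGroup.eq.1 h2
      exact h3
    have h2 : cj (q.out : G) M = cj g M := (c.cj_M_eq_iff q.out.2 hg).2 h1
    have h3 : v.fix c.Dn (cj (q.out : G) R) = v.fix c.Dn (cj g R) := by
      rw [← c.fix_M v q.out.2, h2, c.fix_M v hg]
    have h4 : S ≤ cj (q.out : G) M := by
      rw [h2]
      exact (c.mem_fix_iff_chamber v hS hg hx1 hxg).1 hx
    refine ⟨⟨⟨q, h4⟩, ⟨(v.act c.Dn q.out).symm x, ?_, ?_⟩⟩, ?_⟩
    · have h5 := (v.act_mem_fix (S := R) c.Dn q.out (x := (v.act c.Dn q.out).symm x)).1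
      apply h5
      rw [MulEquiv.apply_symm_apply, h3]
      exact hxg
    · intro e
      apply hx1
      have h5 := MulEquiv.apply_symm_apply (v.act c.Dn q.out) x
      rw [e, map_one] at h5
      exact h5.symm
    · apply Subtype.ext
      exact MulEquiv.apply_symm_apply _ _

end PanelB

end Cfsg.Agent.H284
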