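import Cfsg.Agent.KFacts.RgdFiltClass
import Cfsg.Agent.KFacts.RgdFiltChev
import Cfsg.Agent.KFacts.RgdFiltTwAll
import Cfsg.Agent.H804.PanPSL
import Cfsg.Agent.H742.PanU
import Cfsg.Agent.H353.PanO
import Cfsg.Agent.H793.PanG2
import Cfsg.Agent.H35.ExcIdxTw

/-!
# Filtered root group data with large simple root groups (helper284, for S3499 layer VII)

`FiltC p c M G` : `G` has a filtered root group datum of characteristic `p`, type `M`, which generates `G`, all simple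
root groups of order `≥ c`.
-/

set_option autoImplicit false
set_option linter.unusedSectionVars false

namespace Cfsg.Agent.H284.Pan

open Cfsg CoxeterSystem Cfsg.Agent.ChevalleyStructure.CoxeterGeom Cfsg.Agent.Tits.Roots Cfsg.Agent.Tits.Core
  Cfsg.Agent.Tits.RootComb Cfsg.Agent.Nodes.Comb Cfsg.Agent.Nodes.Reps Cfsg.Agent.Nodes.BNOf
open Cfsg.Agent.Nodes Cfsg.Agent.Nodes.RGDLib Cfsg.Agent.KFacts.RgdBorelTits Cfsg.Agent.KFacts.RgdFilt

/-- `G` has a filtered root group datum of characteristic `p` and type `M`, with simple root groups of order `≥ c` -/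
def FiltC (p c : ℕ) {l : ℕ} (M : CoxeterMatrix (Fin l)) (G : Type*) [Group G] : Prop :=
  ∃ (A : Fin l → Fin l → ℤ) (h : IsCartan M A) (T : Subgroup G) (n : Fin l → G)
    (X : (Fin l → ℤ) → Subgroup G) (R : RGD M.toCoxeterSystem h p T n X) (F : (Fin l → ℤ) → ℝ → Subgroup G),
    Finite M.Group ∧ Nodes.RGDLib.G1 M.toCoxeterSystem h X = ⊤ ∧ Filt R F ∧ ∀ i, c ≤ Nat.card (X (sr i))

theorem FiltC.hasFilt {p c : ℕ} {G : Type*} [Group G] {l : ℕ} {M : CoxeterMatrix (Fin l)} (H : FiltC p c M G) :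
    HasFilt p G := by
  obtain ⟨A, h, T, n, X, R, F, h1, h2, h3, -⟩ := H
  exact ⟨l, M, A, h, T, n, X, R, F, h1, h2, h3⟩

theorem FiltC.mono {p c c' : ℕ} (hc : c' ≤ c) {G : Type*} [Group G] {l : ℕ} {M : CoxeterMatrix (Fin l)}
    (H : FiltC p c M G) : FiltC p c' M G := by
  obtain ⟨A, h, T, n, X, R, F, h1, h2, h3, h4⟩ := H
  exact ⟨A, h, T, n, X, R, F, h1, h2, h3, fun i => hc.trans (h4 i)⟩

theorem FiltC.of_equiv {p c : ℕ} {G H : Type*} [Group G] [Group H] [Finite G] (e : G ≃* H) {l : ℕ}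
    {M : CoxeterMatrix (Fin l)} (hG : FiltC p c M G) : FiltC p c M H := by
  obtain ⟨A, h, T, n, X, R, F, hW, hX, hF, hc⟩ := hG
  refine ⟨A, h, T.map e.toMonoidHom, fun i => e (n i), fun x => (X x).map e.toMonoidHom,
    Nodes.RGDLib.rgd_map_of_injective R e.toMonoidHom e.injective, fun x s => (F x s).map e.toMonoidHom, hW, ?_,
    filt_map hF e.toMonoidHom _, fun i => ?_⟩
  · have h1 : (Nodes.RGDLib.G1 M.toCoxeterSystem h X).map e.toMonoidHom =
        Nodes.RGDLib.G1 M.toCoxeterSystem h (fun x => (X x).map e.toMonoidHom) := by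
      unfold Nodes.RGDLib.G1 RGD.Sup
      rw [Subgroup.map_iSup]
    rw [← h1, hX, Subgroup.map_top_of_surjective _ e.surjective]
  · rw [← (Nat.card_congr ((X (sr i)).equivMapOfInjective e.toMonoidHom e.injective).toEquiv)]
    exact hc i

/-- the same with the exact orders `|X_i| = q i` -/
def FiltQ (p : ℕ) {l : ℕ} (M : CoxeterMatrix (Fin l)) (q : Fin l → ℕ) (G : Type*) [Group G] : Prop :=
  ∃ (A : Fin l → Fin l → ℤ) (h : IsCartan M A) (T : Subgroup G) (n : Fin l → G)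
    (X : (Fin l → ℤ) → Subgroup G) (R : RGD M.toCoxeterSystem h p T n X) (F : (Fin l → ℤ) → ℝ → Subgroup G),
    Finite M.Group ∧ Nodes.RGDLib.G1 M.toCoxeterSystem h X = ⊤ ∧ Filt R F ∧ ∀ i, Nat.card (X (sr i)) = q i

theorem FiltQ.filtC {p : ℕ} {G : Type*} [Group G] {l : ℕ} {M : CoxeterMatrix (Fin l)} {q : Fin l → ℕ}
    (H : FiltQ p M q G) {c : ℕ} (hc : ∀ i, c ≤ q i) : FiltC p c M G := by
  obtain ⟨A, h, T, n, X, R, F, h1, h2, h3, h4⟩ := H
  exact ⟨A, h, T, n, X, R, F, h1, h2, h3, fun i => (hc i).trans (h4 i).ge⟩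

theorem FiltQ.hasFilt {p : ℕ} {G : Type*} [Group G] {l : ℕ} {M : CoxeterMatrix (Fin l)} {q : Fin l → ℕ}
    (H : FiltQ p M q G) : HasFilt p G := (H.filtC (c := 0) fun _ => Nat.zero_le _).hasFilt

theorem FiltQ.of_equiv {p : ℕ} {G H : Type*} [Group G] [Group H] [Finite G] (e : G ≃* H) {l : ℕ}
    {M : CoxeterMatrix (Fin l)} {q : Fin l → ℕ} (hG : FiltQ p M q G) : FiltQ p M q H := by
  obtain ⟨A, h, T, n, X, R, F, hW, hX, hF, hc⟩ := hG
  refine ⟨A, h, T.map e.toMonoidHom, fun i => e (n i), fun x => (X x).map e.toMonoidHom,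
    Nodes.RGDLib.rgd_map_of_injective R e.toMonoidHom e.injective, fun x s => (F x s).map e.toMonoidHom, hW, ?_,
    filt_map hF e.toMonoidHom _, fun i => ?_⟩
  · have h1 : (Nodes.RGDLib.G1 M.toCoxeterSystem h X).map e.toMonoidHom =
        Nodes.RGDLib.G1 M.toCoxeterSystem h (fun x => (X x).map e.toMonoidHom) := by
      unfold Nodes.RGDLib.G1 RGD.Sup
      rw [Subgroup.map_iSup]
    rw [← h1, hX, Subgroup.map_top_of_surjective _ e.surjective]
  · rw [← (Nat.card_congr ((X (sr i)).equivMapOfInjective e.toMonoidHom e.injective).toEquiv)]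
    exact hc i

end Cfsg.Agent.H284.Pan

/-! ### classical groups -/

namespace Cfsg.Agent.H284.Pan

open Cfsg Cfsg.Agent.ChevalleyStructure.CoxeterGeom Cfsg.Agent.Tits.Roots
open Cfsg.Agent.Nodes.Comb Cfsg.Agent.Nodes.Reps Cfsg.Agent.Nodes.WittRoot Cfsg.Agent.Nodes.BNOf
open Cfsg.Agent.Nodes.RGDLib Cfsg.Agent.Nodes.WittAll
open Cfsg.Agent.TitsThree Cfsg.Agent.TitsThree.Siegel Cfsg.Agent.TitsThree.WittFrame
  Cfsg.Agent.TitsThree.WittWeyl Cfsg.Agent.TitsThree.FrameCN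
open Cfsg.Agent.KFacts.RgdBorelTits Cfsg.Agent.KFacts.RgdFilt Cfsg.Agent.KFacts.RgdFiltWitt

theorem filtQ_of_sl {p : ℕ} {G : Type*} [Group G] {l : ℕ} {M : CoxeterMatrix (Fin l)} {A : Fin l → Fin l → ℤ}
    {h : IsCartan M A} {T : Subgroup G} {n : Fin l → G} {X : (Fin l → ℤ) → Subgroup G} {q : Fin l → ℕ}
    (hW : Finite M.Group) (R : RGD M.toCoxeterSystem h p T n X) (hX : G1 M.toCoxeterSystem h X = ⊤)
    (h4 : ∀ i j, M i j ≠ 4) (h6 : ∀ i j, M i j ≠ 6) (hc : ∀ i, Nat.card (X (sr i)) = q i) : FiltQ p M q G :=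
  ⟨A, h, T, n, X, R, F2 X X, hW, hX, (intComm_of_sl R (sl_of_ne h4 h6)).filt, hc⟩

/-! ### type `C` -/

section TypeC

open Cfsg.Agent.Nodes.TypeC

variable {F : Type*} [Field F] {V : Type*} [AddCommGroup V] [Module F V] {H : HForm F V} {n : ℕ}
  {Fr : Frame H (Fin n)} {K : Type*} [Group K] (M : Model Fr K) {p : ℕ}

theorem filtQ_C (hA : AmbT Fr p M.I) [Finite V] [Fact p.Prime] [CharP F p] {p0 : Fr.Adm} (hp0 : p0.c ≠ 0)
    (hn : 0 < n) {q r : ℕ} (hq : Nat.card F = q) (hr : Nat.card Fr.Adm = r) :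
    FiltQ p (CoxeterMatrix.B n) (fun i => if (i : ℕ) + 1 < n then q else r) K := by
  have : Finite (V ≃ₗ[F] V) := Finite.of_injective (fun g : V ≃ₗ[F] V => (g : V → V)) DFunLike.coe_injective
  have hF : Filt (rgdC hA hp0 (CoxeterMatrix.B n).toCoxeterSystem) (F2 (zr Fr) (rg Fr)) :=
    (two hA (T := Nodes.WittRGD.Tor Fr M.I) (fun i => ⟨nn_mem hA p0 i, Nodes.WittRGD.mono_nn hp0 i⟩)
      (fun _ ht => ⟨ht.1, ht.2⟩) _).filt
  have hF1 := filt_restrict hF M.I (fun x _ => hA.rg_le x)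
    (n' := fun i => (⟨Nodes.WittRGD.nn Fr p0 i, nn_mem hA p0 i⟩ : M.I)) (fun _ => rfl)
    (rgd_restrict (rgdC hA hp0 _) M.I (fun x _ => hA.rg_le x) (fun i => nn_mem hA p0 i))
  have hF2 := filt_map hF1 M.φ (rgdC_model M hA hp0 (CoxeterMatrix.B n).toCoxeterSystem)
  refine ⟨A n, isCartan n, _, _, _, rgdC_model M hA hp0 _, _,
    finite_W (CoxeterMatrix.B n).toCoxeterSystem, Nodes.WittModel.G1_eq_top _ hn _, hF2, fun i => ?_⟩
  by_cases hi : (i : ℕ) + 1 < n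
  · exact (H742.card_X_of_lt M hi).trans (hq.trans (if_pos hi).symm)
  · exact (H742.card_X_last M hi).trans (hr.trans (if_neg hi).symm)

theorem filtC_C (hA : AmbT Fr p M.I) [Finite V] [Fact p.Prime] [CharP F p] {p0 : Fr.Adm} (hp0 : p0.c ≠ 0)
    (hn : 0 < n) {c : ℕ} (hc : c ≤ Nat.card F) (hc' : c ≤ Nat.card Fr.Adm) : FiltC p c (CoxeterMatrix.B n) K :=
  (filtQ_C M hA hp0 hn rfl rfl).filtC fun i => by
    split_ifs
    · exact hc
    · exact hc'

end TypeC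

/-! ### linear groups -/

theorem filtQ_PSL {F : Type*} [Field F] [Finite F] (n : ℕ) {p : ℕ} [Fact p.Prime] [CharP F p] :
    FiltQ p (Cfsg.Agent.LieRecognition.BNCox.cA n) (fun _ => Nat.card F)
      (Matrix.ProjectiveSpecialLinearGroup (Fin (n + 1)) F) := by
  have hc : ∀ i j : Fin n, Cfsg.Agent.LieRecognition.BNCox.cA n i j ≤ 3 := by
    intro i j
    rw [Cfsg.Agent.LieRecognition.BNCox.cA_apply]
    show (if (i : ℕ) = j then 1 else if (i : ℕ) + 1 = j ∨ (j : ℕ) + 1 = i then 3 else 2) ≤ 3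
    split_ifs <;> norm_num
  have hW : Finite (Cfsg.Agent.LieRecognition.BNCox.cA n).Group :=
    Nodes.RootsA.finite_W (Cfsg.Agent.LieRecognition.BNCox.cA n).toCoxeterSystem (Nodes.RootsA.isCartan n)
  refine filtQ_of_sl (h := Nodes.RootsA.isCartan n) hW (Nodes.RGDTypeA.rgd_psl _ _)
    (Nodes.RGDTypeA.G1_psl_eq_top _ _)
    (fun i j h => by have := hc i j; omega) (fun i j h => by have := hc i j; omega) (fun i => ?_)
  rw [Nodes.RGDTypeA.X_sr]
  exact H804.PanPSL.card_map_XX (Fin.castSucc_lt_succ).ne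

theorem filtC_PSL {F : Type*} [Field F] [Finite F] (n : ℕ) {p : ℕ} [Fact p.Prime] [CharP F p] :
    FiltC p (Nat.card F) (Cfsg.Agent.LieRecognition.BNCox.cA n)
      (Matrix.ProjectiveSpecialLinearGroup (Fin (n + 1)) F) := (filtQ_PSL n).filtC fun _ => le_rfl

/-! ### Unitary and symplectic groups -/

open Cfsg.Agent.Nodes.WittU Cfsg.Agent.Nodes.WittInst Cfsg.Agent.TitsThree.SiegelGen Cfsg.Agent.TitsThree.WBridge
  Cfsg.Agent.TitsThree.KSideU Cfsg.Agent.LieClassical.HermBasic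

theorem filtC_PSU {F : Type*} [Field F] [Fintype F] {q N : ℕ} (hF : Fintype.card F = q ^ 2) (hN : 3 ≤ N) {p : ℕ}
    [Fact p.Prime] [CharP F p] :
    ∃ m, 1 ≤ m ∧ (N = 2 * m ∨ N = 2 * m + 1) ∧ FiltC p q (CoxeterMatrix.B m) (PSU N F q) := by
  obtain ⟨m, hm⟩ : ∃ m, N = 2 * m ∨ N = 2 * m + 1 := ⟨N / 2, by omega⟩
  obtain ⟨W, -⟩ := exists_wframe hF hm
  obtain ⟨p0, hp0, -⟩ := exists_adm hF W
  have hq : 0 < q := by
    rcases Nat.eq_zero_or_pos q with h | h
    · exfalso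
      have := Fintype.card_pos (α := F)
      rw [hF, h] at this
      norm_num at this
    · exact h
  refine ⟨m, by omega, hm, filtC_C (KInstU.model hF hN W) (AmbT.of_amb (amb_U hF W) p) hp0 (by omega) ?_ ?_⟩
  · rw [Nat.card_eq_fintype_card, hF, pow_two]
    exact Nat.le_mul_of_pos_left _ hq
  · rw [H742.card_adm (toFrame W) rfl (H742.card_ok hF W)]
    exact Nat.le_mul_of_pos_left _ Nat.card_pos

/-- **`PSU_{2m}(q)`** -/
theorem filtQ_PSU_even {F : Type*} [Field F] [Fintype F] {q : ℕ} (hF : Fintype.card F = q ^ 2) {m : ℕ} (hm : 2 ≤ m)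
    {p : ℕ} [Fact p.Prime] [CharP F p] :
    FiltQ p (CoxeterMatrix.B m) (fun i => if (i : ℕ) + 1 < m then q ^ 2 else q) (PSU (2 * m) F q) := by
  obtain ⟨W, hW⟩ := exists_wframe_even hF (rfl : 2 * m = 2 * m)
  obtain ⟨p0, hp0, -⟩ := exists_adm hF W
  refine filtQ_C (KInstU.model hF (by omega) W) (AmbT.of_amb (amb_U hF W) p) hp0 (by omega)
    (by rw [Nat.card_eq_fintype_card, hF]) ?_
  have h1 : Nat.card (toFrame W).V0 = 1 := by
    change Nat.card W.V0 = 1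
    rw [hW]
    exact Nat.card_unique
  rw [H742.card_adm (toFrame W) h1 (H742.card_ok hF W), one_mul]

/-- **`PSU_{2m+1}(q)`** -/
theorem filtQ_PSU_odd {F : Type*} [Field F] [Fintype F] {q : ℕ} (hF : Fintype.card F = q ^ 2) {m : ℕ} (hm : 1 ≤ m)
    {p : ℕ} [Fact p.Prime] [CharP F p] :
    FiltQ p (CoxeterMatrix.B m) (fun i => if (i : ℕ) + 1 < m then q ^ 2 else q ^ 3) (PSU (2 * m + 1) F q) := by
  obtain ⟨W, d, hd, hW⟩ := exists_wframe_odd hF (rfl : 2 * m + 1 = 2 * m + 1)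
  obtain ⟨p0, hp0, -⟩ := exists_adm hF W
  refine filtQ_C (KInstU.model hF (by omega) W) (AmbT.of_amb (amb_U hF W) p) hp0 (by omega)
    (by rw [Nat.card_eq_fintype_card, hF]) ?_
  have hd0 : d ≠ 0 := by
    rintro rfl
    rw [Cfsg.Agent.LieClassical.HermBasic.herm_zero_left] at hd
    exact zero_ne_one hd
  have h1 : Nat.card (toFrame W).V0 = q ^ 2 := by
    change Nat.card W.V0 = q ^ 2
    rw [hW, ← hF, ← Nat.card_eq_fintype_card]
    exact (Nat.card_congr (LinearEquiv.toSpanNonzeroSingleton F (Fin (2 * m + 1) → F) d hd0).toEquiv).symm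
  rw [H742.card_adm (toFrame W) h1 (H742.card_ok hF W), ← pow_succ]

theorem filtC_PSp {F : Type*} [Field F] [Finite F] {m : ℕ} (hm : 1 ≤ m) {p : ℕ}
    [Fact p.Prime] [CharP F p] : FiltC p (Nat.card F) (CoxeterMatrix.B m) (PSp m F) :=
  filtC_C (KInstSp.model m F) (AmbT.of_amb amb_Sp p) (p0 := SpIdent.adm 1) one_ne_zero hm le_rfl
    (Nat.card_congr ⟨fun a => a.c, fun c => SpIdent.adm c, fun a => (SpIdent.eq_adm a).symm, fun _ => rfl⟩).ge

/-! ### Orthogonal groups -/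

section Orthogonal

open QuadraticMap
open Cfsg.Agent.LieClassical Cfsg.Agent.LieClassical.OrthCore Cfsg.Agent.LieClassical.OrthTrans
open Cfsg.Agent.LieClassical.OrthSimple Cfsg.Agent.LieClassical.OrthFinite
open Cfsg.Agent.LieClassical.OrthForms
open Cfsg.Agent.TitsThree.WBridge Cfsg.Agent.TitsThree.KSideO Cfsg.Agent.TitsThree.StdData

variable {F : Type*} [Field F] {m : ℕ}

theorem filtC_PO_odd [Finite F] (h2 : (2 : F) ≠ 0) (hm : 2 ≤ m) {p : ℕ} [Fact p.Prime] [CharP F p] :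
    FiltC p (Nat.card F) (CoxeterMatrix.B m) (Cfsg.POmega F (Cfsg.quadFormOdd m F)) := by
  rw [← coe_oddForm]
  have hG : Good (oddForm m F) := by
    apply good_of_finite (nondeg_oddForm m F h2)
    rw [Module.finrank_fintype_fun_eq_card, Fintype.card_sum, Fintype.card_sum, Fintype.card_fin,
      Fintype.card_unit]
    omega
  have hp : ((embOdd m F).ngt ⟨1, -1 ^ 2, rfl⟩).c ≠ 0 := by
    change (1 : F)⁻¹ * (-1 ^ 2) ≠ 0
    simp
  exact filtC_C (model (wodd m F) hG ⟨_, hp⟩) (AmbT.of_amb (amb_O_of_two _ h2) p) hp (by omega) le_rfl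
    (by rw [H353.PanO.card_adm, H353.PanO.card_V0_odd])

theorem filtQ_PO_minus [Finite F] (a b : F)
    (hab : ∀ z₁ z₂ : F, z₁ ^ 2 + a * z₁ * z₂ + b * z₂ ^ 2 = 0 → z₁ = 0 ∧ z₂ = 0)
    (hm : 2 ≤ m) {p : ℕ} [Fact p.Prime] [CharP F p] :
    FiltQ p (CoxeterMatrix.B m) (fun i => if (i : ℕ) + 1 < m then Nat.card F else Nat.card F ^ 2)
      (Cfsg.POmega F (Cfsg.quadFormMinus m F a b)) := by
  rw [← coe_minusForm]
  have hG : Good (minusForm m F a b) := by
    apply good_of_finite (nondeg_minusForm m F a b hab)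
    rw [Module.finrank_fintype_fun_eq_card, Fintype.card_sum, Fintype.card_sum, Fintype.card_fin,
      Fintype.card_fin]
    omega
  have hp : ((embMinus m F a b hab).ngt ⟨(1, 0), -nf a b (1, 0), rfl⟩).c ≠ 0 := by
    change (1 : F)⁻¹ * (-nf a b (1, 0)) ≠ 0
    simp [nf]
  have hA : AmbT (toFrame (wminus m F a b hab)) p (E (minusForm m F a b)) := by
    by_cases h2 : (2 : F) = 0
    · have hp2 : p = 2 := by
        have h3 : CharP F 2 := CharTwo.of_one_ne_zero_of_two_eq_zero one_ne_zero h2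
        exact CharP.eq F ‹CharP F p› h3
      subst hp2
      exact ambT_O _ fun g hg hg2 hb => fixp_minus a b hab h2 hm hG hg hg2 hb
    · exact AmbT.of_amb (amb_O_of_two _ h2) p
  exact filtQ_C (model (wminus m F a b hab) hG ⟨_, hp⟩) hA hp (by omega) rfl
    (by rw [H353.PanO.card_adm, H353.PanO.card_V0_minus])

theorem filtC_PO_minus [Finite F] (a b : F)
    (hab : ∀ z₁ z₂ : F, z₁ ^ 2 + a * z₁ * z₂ + b * z₂ ^ 2 = 0 → z₁ = 0 ∧ z₂ = 0)
    (hm : 2 ≤ m) {p : ℕ} [Fact p.Prime] [CharP F p] :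
    FiltC p (Nat.card F) (CoxeterMatrix.B m) (Cfsg.POmega F (Cfsg.quadFormMinus m F a b)) :=
  (filtQ_PO_minus a b hab hm).filtC fun i => by
    split_ifs
    · exact le_rfl
    · rw [pow_two]
      exact Nat.le_mul_of_pos_left _ Nat.card_pos

/-- a root element of `PΩ⁺` in the kernel is trivial -/
theorem eq_zero_of_XD {V : Type*} [AddCommGroup V] [Module F V] {H : HForm F V} {n : ℕ} {Fr : Frame H (Fin n)}
    {x y : Fin n × Bool} (h : x.1 ≠ y.1) {t : F} {a : F} (ha : ∀ v, Fr.X x y t v = a • v) : t = 0 := by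
  have h1 : Fr.b (neg y) + t • Fr.b x = a • Fr.b (neg y) := by
    rw [← WittWeyl.X_apply_neg Fr h]; exact ha _
  have h3 := congrArg (fun v => H.h v (Fr.b (neg x))) h1
  have h4 : H.h (Fr.b (neg y)) (Fr.b (neg x)) = 0 := Fr.hb_of_ne (x := neg y) (y := neg x) h.symm
  simp only [H.add_left, H.smul_left, h4, Fr.hb_self_neg, mul_zero, zero_add] at h3
  exact (mul_eq_zero.1 h3).resolve_right (Fr.η_ne _)

theorem card_XD [Finite F] {ι : Type} [Fintype ι] [DecidableEq ι] {Q : QuadraticForm F (ι → F)} {n : ℕ}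
    (W : WFrame (PO Q) (n + 2)) (hG : Good Q) (i : Fin (n + 2)) :
    Nat.card F ≤ Nat.card (XD W (toPOmega hG) (sr i)) := by
  have hmem : ∀ t : F, (toFrame W).X (i, true) (Nodes.TypeD.nx i) t ∈ E Q := fun t => X_mem W _ _ _
  have hfin : Finite ((ι → F) ≃ₗ[F] (ι → F)) :=
    Finite.of_injective (fun g : (ι → F) ≃ₗ[F] (ι → F) => (g : (ι → F) → (ι → F))) DFunLike.coe_injective
  have : Finite ↥(XD W (toPOmega hG) (sr i)) := by
    have h1 : Finite ↥((Nodes.WittRGDD.rg (toFrame W) (sr i)).subgroupOf (E Q)) := inferInstance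
    exact Finite.of_surjective (fun x : ↥((Nodes.WittRGDD.rg (toFrame W) (sr i)).subgroupOf (E Q)) =>
      (⟨toPOmega hG x.1, Subgroup.mem_map_of_mem _ x.2⟩ : ↥(XD W (toPOmega hG) (sr i)))) (by
        rintro ⟨_, x, hx, rfl⟩
        exact ⟨⟨x, hx⟩, rfl⟩)
  refine Nat.card_le_card_of_injective (fun t : F => (⟨toPOmega hG ⟨_, hmem t⟩, Subgroup.mem_map_of_mem _
    (Subgroup.mem_subgroupOf.2 (by rw [Nodes.WittRGDD.rg_sr]; exact ⟨t, rfl⟩))⟩ : ↥(XD W (toPOmega hG) (sr i)))) ?_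
  intro s t hst
  have h1 : toPOmega hG ⟨_, hmem s⟩ = toPOmega hG ⟨_, hmem t⟩ := congrArg Subtype.val hst
  have h2 : toPOmega hG ⟨_, hmem (s - t)⟩ = 1 := by
    rw [← mul_inv_eq_one, ← map_inv, ← map_mul] at h1
    rw [← h1]
    congr 1
    apply Subtype.ext
    change (toFrame W).X (i, true) _ (s - t) = (toFrame W).X (i, true) _ s * ((toFrame W).X (i, true) _ t)⁻¹
    rw [← (toFrame W).X_neg, ← (toFrame W).X_add, sub_eq_add_neg]
  obtain ⟨a, ha⟩ := scalar_of_center hG (center_of_toPOmega hG h2)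
  exact sub_eq_zero.1 (eq_zero_of_XD (Nodes.TypeD.ok_nx i) ha)

theorem filtC_PO_plus [Finite F] (n : ℕ) {p : ℕ} [Fact p.Prime] [CharP F p] :
    FiltC p (Nat.card F) (Nodes.TypeD.M (n + 1)) (Cfsg.POmega F (Cfsg.quadFormPlus (n + 3) F)) := by
  rw [← coe_plusForm]
  have hG : Good (plusForm (n + 3) F) := by
    apply good_of_finite (nondeg_plusForm (n + 3) F)
    rw [Module.finrank_fintype_fun_eq_card, Fintype.card_sum, Fintype.card_fin]
    omega
  have hc : ∀ i j : Fin (n + 1 + 2), Nodes.TypeD.M (n + 1) i j ≤ 3 := by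
    intro i j
    show (if i = j then 1 else if Nodes.TypeD.Adj i j ∨ Nodes.TypeD.Adj j i then 3 else 2) ≤ 3
    split_ifs <;> norm_num
  exact (filtQ_of_sl (Nodes.TypeD.finite_W (Nodes.TypeD.M (n + 1)).toCoxeterSystem)
    (rgdD_model (wplus (n + 3) F) hG (amb_plus _) (adm_plus _) _)
    (G1D_eq_top (wplus (n + 3) F) (toPOmega hG) (toPOmega_surjective hG) (adm_plus _) _)
    (fun i j h => by have := hc i j; omega) (fun i j h => by have := hc i j; omega)
    (fun _ => rfl)).filtC (fun i => card_XD _ hG i)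

end Orthogonal

end Cfsg.Agent.H284.Pan

/-! ### exceptional groups -/

namespace Cfsg.Agent.H284.Pan

open CoxeterSystem Cfsg.Agent.ChevalleyStructure.CoxeterGeom Cfsg.Agent.Tits.Roots Cfsg.Agent.Tits.Core
  Cfsg.Agent.Tits.RootComb Cfsg.Agent.Nodes.Comb Cfsg.Agent.Nodes.Reps Cfsg.Agent.Nodes.BNOf
open Cfsg.Lie Cfsg.Agent.ChevalleyStructure Cfsg.Agent.ChevalleyStructure.Elts
  Cfsg.Agent.ChevalleyStructure.RootVec Cfsg.Agent.ChevalleyStructure.RootVecTab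
  Cfsg.Agent.ChevalleyStructure.NPerm Cfsg.Agent.ChevalleyStructure.CoxeterGeomTypes
open Cfsg.Agent.Nodes Cfsg.Agent.Nodes.RGDChev Cfsg.Agent.KFacts.RgdBorelTits Cfsg.Agent.KFacts.RgdFilt
open Cfsg.Agent.KFacts.RgdFiltChev

universe u

theorem filtQ_group {D : ChevalleyDatum} {l : ℕ} {M : CoxeterMatrix (Fin l)} (hp : IsType D l M) (K : Type u)
    [Field K] [Finite K] (p : ℕ) [CharP K p] : FiltQ p M (fun _ => Nat.card K) ↥(D.group K) := by
  have : Fact p.Prime := ⟨CharP.char_is_prime K p⟩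
  exact ⟨cartanOf D l, hp.isCartan, _, _, _, rgd (K := K) hp M.toCoxeterSystem p, _,
    finite_W hp M.toCoxeterSystem, G1_eq_top hp _, filt hp M.toCoxeterSystem p,
    fun i => H35.ExcIdx.card_XX hp K M.toCoxeterSystem (isRoot_sr _ _ i)⟩

theorem filtC_group {D : ChevalleyDatum} {l : ℕ} {M : CoxeterMatrix (Fin l)} (hp : IsType D l M) (K : Type u)
    [Field K] [Finite K] (p : ℕ) [CharP K p] : FiltC p (Nat.card K) M ↥(D.group K) :=
  (filtQ_group hp K p).filtC fun _ => le_rfl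

end Cfsg.Agent.H284.Pan

namespace Cfsg.Agent.H284.Pan

open CoxeterSystem Cfsg.Agent.ChevalleyStructure.CoxeterGeom Cfsg.Agent.Tits.Roots Cfsg.Agent.Tits.Core
  Cfsg.Agent.Nodes.BNOf Cfsg.Agent.Nodes.RGDTwGen Cfsg.Agent.Nodes.RGDChev Cfsg.Agent.Nodes.RGDFold
open Cfsg.Lie Cfsg.Agent.ChevalleyStructure Cfsg.Agent.ChevalleyStructure.Elts
  Cfsg.Agent.ChevalleyStructure.RootVec Cfsg.Agent.ChevalleyStructure.RootVecTab
open Cfsg.Agent.Nodes Cfsg.Agent.KFacts.RgdBorelTits Cfsg.Agent.KFacts.RgdFilt Cfsg.Agent.KFacts.RgdFiltTwAll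

universe u

section Fold

variable {D : ChevalleyDatum} {l : ℕ} {M' : CoxeterMatrix (Fin l)} {hp : IsType D l M'} {K : Type u} [Field K]
variable {m : ℕ} {M : CoxeterMatrix (Fin m)}
  {A : Fin m → Fin m → ℤ}
    {J : Fin m → List (Fin l)} {L : List (List ℕ)} {σ : GL D.Idx K →* GL D.Idx K} {ρ ρ' : ℕ → ℕ}
    {f : ℕ → K → K} {G : Subgroup (GL D.Idx K)} (FD : FoldData D M A J L)
    (FG : FoldGrp hp K J L σ ρ ρ' f G)

include FD FG

theorem filtQ_fold [Finite K] (p : ℕ) [CharP K p] (h : IsCartan M A) {q : Fin m → ℕ}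
    (hc : ∀ i, Nat.card ((R D hp K J σ (sr i)).subgroupOf G) = q i) : FiltQ p M q ↥G := by
  have : Fact p.Prime := ⟨CharP.char_is_prime K p⟩
  exact ⟨A, h, _, _, _, rgd M.toCoxeterSystem h FD FG p, _, finite_W (hp := hp) M.toCoxeterSystem h FD,
    G1_eq_top M.toCoxeterSystem h FD FG p, filt_fold M.toCoxeterSystem h FD FG p, hc⟩

end Fold

theorem filtQ_twD4 {K : Type} [Field K] [Fintype K] {q : ℕ} (hq : IsPrimePow q) (hK : Fintype.card K = q ^ 3)
    (p : ℕ) [CharP K p] : FiltQ p CoxeterMatrix.G₂ (fun i => if i = 0 then q else q ^ 3) ↥(twistedD4 K q) := by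
  obtain ⟨φ, hφ⟩ := D4Fixed.exists_frob hq hK
  have hle := D4Fixed.twisted_le_fix hK hφ
  refine filtQ_fold RGDTwD4.foldData (RGDTwD4.foldGrp hφ (D4Fixed.twisted_le_fix hK hφ)) p RGDTwD4.isCartan
    (fun i => ?_)
  change Nat.card (RGDTwD4.X φ q (sr i)) = _
  fin_cases i
  · exact ClosedExc.TwD4.card_X0 hφ hle hq.two_le hK
  · exact (ClosedExc.TwD4.card_X1 hφ hle).trans hK

theorem filtC_twD4 {K : Type} [Field K] [Fintype K] {q : ℕ} (hq : IsPrimePow q) (hK : Fintype.card K = q ^ 3)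
    (p : ℕ) [CharP K p] : FiltC p q CoxeterMatrix.G₂ ↥(twistedD4 K q) :=
  (filtQ_twD4 hq hK p).filtC fun i => by
    split_ifs
    · exact le_rfl
    · exact Nat.le_self_pow (by norm_num) q

theorem filtQ_twE6 {K : Type u} [Field K] [Fintype K] {q : ℕ} (hq : IsPrimePow q) (hK : Fintype.card K = q ^ 2)
    (p : ℕ) [CharP K p] :
    FiltQ p CoxeterMatrix.F₄ (fun i => if (i : ℕ) < 2 then q else q ^ 2) ↥(twistedE6 K q) := by
  obtain ⟨φ, hφ, hqq⟩ := TwE6Basic.exists_frob hq hK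
  refine filtQ_fold RGDTwE6.foldData (RGDTwE6.foldGrp hφ hqq) p RGDTwE6.isCartan (fun i => ?_)
  change Nat.card (RGDTwE6.X φ q (sr i)) = _
  rw [H35.ExcIdx.card_X_tw hφ hqq hq.one_lt hK]
  rfl

theorem filtC_twE6 {K : Type u} [Field K] [Fintype K] {q : ℕ} (hq : IsPrimePow q) (hK : Fintype.card K = q ^ 2)
    (p : ℕ) [CharP K p] : FiltC p q CoxeterMatrix.F₄ ↥(twistedE6 K q) :=
  (filtQ_twE6 hq hK p).filtC fun i => by
    split_ifs
    · exact le_rfl
    · exact Nat.le_self_pow (by norm_num) q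

end Cfsg.Agent.H284.Pan
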