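import Cfsg.Agent.H284.EPO.Chambers
import Cfsg.Agent.H470.EPO.Panel

/-!
# The end of case (B): the panel lemma applied to a residue (helper284)

A residue of the chamber set `P/(P ∩ M)` is given by `Pj ≤ P` and `Vj ≤ P` with
`Vj ≤ g M g⁻¹ ↔ g ∈ Pj M` for `g ∈ P` (typically `Pj` a parabolic, `Vj = O_p(Pj)`).
-/

set_option autoImplicit false
set_option linter.unusedSectionVars false

namespace Cfsg.Agent.H284

open MulAction Subgroup

variable {G : Type*} [Group G]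

namespace PanelB

variable {H R P D M W : Subgroup G} {p : ℕ} (c : PanelB H R P D M p) (v : VecB H P D W p)

include c

theorem chamber_congr [Finite G] {g k : G} (hg : g ∈ P) (hk : k ∈ P) (h : g⁻¹ * k ∈ M) :
    v.fix c.Dn (cj g R) = v.fix c.Dn (cj k R) := by
  rw [← c.fix_M v hg, (c.cj_M_eq_iff hg hk).2 h, c.fix_M v hk]

/-- the chambers whose group contains `Vj` are those of `Pj` -/
theorem ncard_residue [Finite G] {Pj Vj : Subgroup G} (hPj : Pj ≤ P)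
    (hV : ∀ g ∈ P, Vj ≤ cj g M ↔ ∃ h ∈ Pj, h⁻¹ * g ∈ M) :
    Set.ncard {q : P ⧸ M.subgroupOf P | Vj ≤ cj (q.out : G) M} = M.relIndex Pj := by
  classical
  rw [Subgroup.relIndex, Subgroup.index, ← Nat.card_coe_set_eq]
  symm
  have hcj : ∀ g : P, cj (((QuotientGroup.mk g : P ⧸ M.subgroupOf P).out : P) : G) M = cj (g : G) M := by
    intro g
    rw [c.cj_M_eq_iff (Subtype.property _) g.2]
    have h2 : (QuotientGroup.mk (QuotientGroup.mk g : P ⧸ M.subgroupOf P).out : P ⧸ M.subgroupOf P) =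
        QuotientGroup.mk g := QuotientGroup.out_eq' _
    have h3 := QuotientGroup.eq.1 h2
    exact h3
  have hwd : ∀ g k : Pj, (g : G)⁻¹ * (k : G) ∈ M ↔
      (QuotientGroup.mk (⟨g, hPj g.2⟩ : P) : P ⧸ M.subgroupOf P) = QuotientGroup.mk (⟨k, hPj k.2⟩ : P) := by
    intro g k
    rw [QuotientGroup.eq]
    rfl
  have hmap : ∀ g : Pj, Vj ≤ cj (((QuotientGroup.mk (⟨g, hPj g.2⟩ : P) : P ⧸ M.subgroupOf P).out : P) : G) M := by
    intro g
    rw [hcj]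
    exact (hV _ (hPj g.2)).2 ⟨g, g.2, by rw [inv_mul_cancel]; exact one_mem _⟩
  apply Nat.card_congr
  refine Equiv.ofBijective (fun q => ⟨QuotientGroup.mk (⟨q.out, hPj q.out.2⟩ : P), hmap q.out⟩) ⟨?_, ?_⟩
  · intro q q' he
    have h1 := (hwd q.out q'.out).2 (Subtype.ext_iff.1 he)
    rw [← q.out_eq', ← q'.out_eq']
    exact QuotientGroup.eq.2 h1
  · rintro ⟨q, hq⟩
    obtain ⟨h, hh, hhq⟩ := (hV _ q.out.2).1 hq
    refine ⟨QuotientGroup.mk ⟨h, hh⟩, ?_⟩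
    apply Subtype.ext
    have h2 : (QuotientGroup.mk (QuotientGroup.mk (⟨h, hh⟩ : Pj) : Pj ⧸ M.subgroupOf Pj).out : Pj ⧸ M.subgroupOf Pj) =
        QuotientGroup.mk (⟨h, hh⟩ : Pj) := QuotientGroup.out_eq' _
    have h3 := QuotientGroup.eq.1 h2
    have h4 := (hwd _ _).1 h3
    have h5 : (QuotientGroup.mk (⟨h, hPj hh⟩ : P) : P ⧸ M.subgroupOf P) = QuotientGroup.mk q.out := QuotientGroup.eq.2 hhq
    rw [QuotientGroup.out_eq'] at h5
    exact Eq.trans h4 h5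

/-- **COUNT of a residue**: `|C_V(Vj)| = 1 + |Pj : Pj ∩ M| (|C_V(R)| - 1)` -/
theorem card_residue [Finite G] {Pj Vj : Subgroup G} (hPj : Pj ≤ P) (hVj : Vj ≤ P)
    (hV : ∀ g ∈ P, Vj ≤ cj g M ↔ ∃ h ∈ Pj, h⁻¹ * g ∈ M) :
    Nat.card (v.fix c.Dn Vj) = 1 + M.relIndex Pj * (Nat.card (v.fix c.Dn R) - 1) := by
  have h1 := c.card_fix v hVj
  rw [c.ncard_residue hPj hV] at h1
  have h2 : 0 < Nat.card (v.fix c.Dn Vj) := Nat.card_pos
  omega

theorem pow_residue [Finite G] {Pj Vj : Subgroup G} (hPj : Pj ≤ P) (hVj : Vj ≤ P)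
    (hV : ∀ g ∈ P, Vj ≤ cj g M ↔ ∃ h ∈ Pj, h⁻¹ * g ∈ M) :
    ∃ s : ℕ, 1 + M.relIndex Pj * (Nat.card (v.fix c.Dn R) - 1) = p ^ s := by
  have := Fact.mk c.hp
  rw [← c.card_residue v hPj hVj hV]
  exact IsPGroup.iff_card.1 (v.isPGroup.to_subgroup _)

/-- if `|C_V(R)| = 2`, then the number of chambers of every residue is a power of 2 minus 1 -/
theorem relIndex_residue [Finite G] {Pj Vj : Subgroup G} (hPj : Pj ≤ P) (hVj : Vj ≤ P)
    (hV : ∀ g ∈ P, Vj ≤ cj g M ↔ ∃ h ∈ Pj, h⁻¹ * g ∈ M) (h2 : p = 2) (hR : Nat.card (v.fix c.Dn R) = 2) :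
    ∃ s : ℕ, M.relIndex Pj + 1 = 2 ^ s := by
  obtain ⟨s, hs⟩ := c.pow_residue v hPj hVj hV
  rw [hR, h2] at hs
  exact ⟨s, by omega⟩

/-- a residue with `n ≡ 1 mod 4`, `n > 1`, chambers is impossible, if `|C_V(R)| = 2` -/
theorem residue_mod_four [Finite G] {Pj Vj : Subgroup G} (hPj : Pj ≤ P) (hVj : Vj ≤ P)
    (hV : ∀ g ∈ P, Vj ≤ cj g M ↔ ∃ h ∈ Pj, h⁻¹ * g ∈ M) (h2 : p = 2) (hR : Nat.card (v.fix c.Dn R) = 2)
    (hidx : M.relIndex Pj % 4 = 1) : M.relIndex Pj = 1 := by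
  obtain ⟨s, hs⟩ := c.relIndex_residue v hPj hVj hV h2 hR
  match s, hs with
  | 0, hs => rw [pow_zero] at hs; omega
  | 1, hs => rw [pow_one] at hs; omega
  | s + 2, hs =>
    have h5 : 2 ^ (s + 2) = 4 * 2 ^ s := by rw [pow_add]; ring
    omega

/-- a residue of rank two with 3 chambers in each panel is impossible, if `|C_V(R)| = 2` -/
theorem rank_two [Finite G] {Pj Vj : Subgroup G} (hPj : Pj ≤ P) (hVj : Vj ≤ P)
    (hV : ∀ g ∈ P, Vj ≤ cj g M ↔ ∃ h ∈ Pj, h⁻¹ * g ∈ M) (h2 : p = 2)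
    (hR : Nat.card (v.fix c.Dn R) = 2) {m : ℕ} (hm : 2 ≤ m)
    (hidx : M.relIndex Pj = 3 * (2 ^ m - 1)) : False := by
  obtain ⟨s, hs⟩ := c.pow_residue v hPj hVj hV
  rw [hR, hidx, h2] at hs
  obtain ⟨k, rfl⟩ := Nat.exists_eq_add_of_le hm
  have h4 : 2 ^ (2 + k) = 4 * 2 ^ k := by rw [pow_add]; norm_num
  have hk : 0 < 2 ^ k := by positivity
  rw [h4] at hs
  match s, hs with
  | 0, hs => rw [pow_zero] at hs; omega
  | 1, hs => rw [pow_one] at hs; omega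
  | s + 2, hs =>
    have h5 : 2 ^ (s + 2) = 4 * 2 ^ s := by rw [pow_add]; ring
    omega

/-- **the panel lemma for a residue** -/
theorem panel_end [Finite G] (hW : W ≠ D) {Pj Vj : Subgroup G} (hPj : Pj ≤ P) (hVj : Vj ≤ P)
    (hV : ∀ g ∈ P, Vj ≤ cj g M ↔ ∃ h ∈ Pj, h⁻¹ * g ∈ M) {a : ℕ} (ha : 1 ≤ a) (hidx : M.relIndex Pj = p ^ a + 1)
    (two : ∀ g ∈ Pj, ∀ k ∈ Pj, g ∉ M → k ∉ M → ∃ m ∈ Pj ⊓ M, k⁻¹ * (m * g) ∈ M) :
    p = 2 ∧ a = 1 ∧ Nat.card (v.fix c.Dn Vj) = 4 ∧ Nat.card (v.fix c.Dn R) = 2 := by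
  classical
  have := Fact.mk c.hp
  have hmemV : ∀ x : v.Vec, x ∈ v.fix c.Dn Vj → x ≠ 1 → ∃ g ∈ Pj, x ∈ v.fix c.Dn (cj g R) := by
    intro x hx hx1
    obtain ⟨g, hg, hxg⟩ := c.exists_chamber v x
    obtain ⟨h, hh, hhg⟩ := (hV g hg).1 ((c.mem_fix_iff_chamber v hVj hg hx1 hxg).1 hx)
    exact ⟨h, hh, by rw [c.chamber_congr v (hPj hh) hg hhg]; exact hxg⟩
  have hVmem : ∀ g ∈ Pj, v.fix c.Dn (cj g R) ≤ v.fix c.Dn Vj := by
    intro g hg x hx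
    by_cases hx1 : x = 1
    · rw [hx1]; exact one_mem _
    · exact (c.mem_fix_iff_chamber v hVj (hPj hg) hx1 hx).2
        ((hV g (hPj hg)).2 ⟨g, hg, by rw [inv_mul_cancel]; exact one_mem _⟩)
  have hact : ∀ k : Pj, ∀ x : v.Vec, x ∈ v.fix c.Dn Vj → v.act c.Dn ⟨k, hPj k.2⟩ x ∈ v.fix c.Dn Vj := by
    intro k x hx
    by_cases hx1 : x = 1
    · rw [hx1, map_one]; exact one_mem _
    · obtain ⟨g, hg, hxg⟩ := hmemV x hx hx1
      have h1 := (v.act_mem_fix c.Dn (⟨k, hPj k.2⟩ : P)).2 hxg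
      have h2 : cj ((⟨k, hPj k.2⟩ : P) : G) (cj g R) = cj ((k : G) * g) R := by rw [cj_mul]
      rw [h2] at h1
      exact hVmem _ (Pj.mul_mem k.2 hg) h1
  let ρ₀ : Pj → v.fix c.Dn Vj →* v.fix c.Dn Vj := fun k =>
    { toFun := fun x => ⟨v.act c.Dn ⟨k, hPj k.2⟩ x, hact k x.1 x.2⟩
      map_one' := Subtype.ext (map_one _)
      map_mul' := fun x y => Subtype.ext (map_mul _ _ _) }
  have hρ₀ : ∀ (k : Pj) (x : v.fix c.Dn Vj), ((ρ₀ k x : v.fix c.Dn Vj) : v.Vec) = v.act c.Dn ⟨k, hPj k.2⟩ x :=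
    fun _ _ => rfl
  have hρmul : ∀ (k l : Pj) (x : v.fix c.Dn Vj), ρ₀ (k * l) x = ρ₀ k (ρ₀ l x) := by
    intro k l x
    apply Subtype.ext
    rw [hρ₀, hρ₀, hρ₀, ← MulAut.mul_apply, ← map_mul]
    rfl
  have hρone : ∀ x : v.fix c.Dn Vj, ρ₀ 1 x = x := by
    intro x
    apply Subtype.ext
    rw [hρ₀]
    have e : (⟨((1 : Pj) : G), hPj (1 : Pj).2⟩ : P) = 1 := rfl
    rw [e, map_one, MulAut.one_apply]
  let ρ : Pj →* MulAut (v.fix c.Dn Vj) :=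
    { toFun := fun k =>
        { ρ₀ k with
          invFun := ρ₀ k⁻¹
          left_inv := fun x => by
            show ρ₀ k⁻¹ (ρ₀ k x) = x
            rw [← hρmul, inv_mul_cancel, hρone]
          right_inv := fun x => by
            show ρ₀ k (ρ₀ k⁻¹ x) = x
            rw [← hρmul, mul_inv_cancel, hρone] }
      map_one' := MulEquiv.ext hρone
      map_mul' := fun k l => MulEquiv.ext (hρmul k l) }
  have hρ : ∀ (k : Pj) (x : v.fix c.Dn Vj), ((ρ k x : v.fix c.Dn Vj) : v.Vec) = v.act c.Dn ⟨k, hPj k.2⟩ x :=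
    fun _ _ => rfl
  let V : (Pj ⧸ M.subgroupOf Pj) → Subgroup (v.fix c.Dn Vj) :=
    fun q => (v.fix c.Dn (cj (q.out : G) R)).subgroupOf (v.fix c.Dn Vj)
  have hVq : ∀ (q : Pj ⧸ M.subgroupOf Pj) (x : v.fix c.Dn Vj), x ∈ V q ↔ (x : v.Vec) ∈ v.fix c.Dn (cj (q.out : G) R) :=
    fun _ _ => Iff.rfl
  have hmk : ∀ (g : Pj) (x : v.fix c.Dn Vj), x ∈ V (QuotientGroup.mk g) ↔ (x : v.Vec) ∈ v.fix c.Dn (cj (g : G) R) := by
    intro g x
    rw [hVq]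
    have h2 : (QuotientGroup.mk (QuotientGroup.mk g : Pj ⧸ M.subgroupOf Pj).out : Pj ⧸ M.subgroupOf Pj) =
        QuotientGroup.mk g := QuotientGroup.out_eq' _
    have h3 := QuotientGroup.eq.1 h2
    rw [c.chamber_congr v (hPj (Subtype.property _)) (hPj g.2) h3]
  have key := Cfsg.Agent.H470.EPO.panel (p := p) (a := a) ρ (MulAction.toPermHom Pj (Pj ⧸ M.subgroupOf Pj)) V
    (fun x => Subtype.ext (by
      rw [Subgroup.coe_pow]
      exact v.pow_eq_one _)) ha hidx ?_ ?_ ?_ ?_ ?_ ?_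
  · obtain ⟨h1, h2, h3, h4⟩ := key
    refine ⟨h1, h2, h3, ?_⟩
    have h5 := h4 (QuotientGroup.mk 1)
    rw [← h5]
    apply Nat.card_congr
    refine Equiv.ofBijective (fun x => ⟨⟨x.1, ?_⟩, ?_⟩) ⟨?_, ?_⟩
    · have := hVmem 1 (one_mem _)
      rw [cj_one] at this
      exact this x.2
    · rw [hmk]
      show x.1 ∈ v.fix c.Dn (cj ((1 : Pj) : G) R)
      rw [Subgroup.coe_one, cj_one]
      exact x.2
    · intro x y h6
      exact Subtype.ext (congrArg (fun z : V (QuotientGroup.mk 1) => ((z.1 : v.fix c.Dn Vj) : v.Vec)) h6)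
    · rintro ⟨⟨y, hy⟩, hy'⟩
      rw [hmk] at hy'
      have hy2 : y ∈ v.fix c.Dn (cj ((1 : Pj) : G) R) := hy'
      rw [Subgroup.coe_one, cj_one] at hy2
      exact ⟨⟨y, hy2⟩, rfl⟩
  · intro g q x hx
    have e : (MulAction.toPermHom Pj (Pj ⧸ M.subgroupOf Pj)) g q = QuotientGroup.mk (g * q.out) := by
      show g • q = _
      conv_lhs => rw [← q.out_eq']
      rfl
    rw [e, hmk, hρ]
    have h1 := (v.act_mem_fix c.Dn (⟨g, hPj g.2⟩ : P)).2 ((hVq _ _).1 hx)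
    have h2 : cj ((⟨g, hPj g.2⟩ : P) : G) (cj (q.out : G) R) = cj ((g * q.out : Pj) : G) R := by
      rw [Subgroup.coe_mul, cj_mul]
    rw [h2] at h1
    exact h1
  · intro g q x hgq hx
    apply Subtype.ext
    rw [hρ]
    have h1 := (hVq _ _).1 hx
    rw [← c.fix_M v (hPj q.out.2)] at h1
    apply h1
    show (g : G) ∈ cj (q.out : G) M
    have h2 : g • q = q := hgq
    have h3 : (QuotientGroup.mk (g * q.out) : Pj ⧸ M.subgroupOf Pj) = QuotientGroup.mk q.out := by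
      have h5 : g • (QuotientGroup.mk q.out : Pj ⧸ M.subgroupOf Pj) = QuotientGroup.mk q.out := by
        rw [QuotientGroup.out_eq']
        exact h2
      exact h5
    have h6 := QuotientGroup.eq.1 h3.symm
    have h4 : ((q.out : Pj) : G)⁻¹ * ((g * q.out : Pj) : G) ∈ M := h6
    rw [mem_cj]
    rw [Subgroup.coe_mul, ← mul_assoc] at h4
    exact h4
  · intro x
    by_cases hx1 : x = 1
    · exact ⟨QuotientGroup.mk 1, by rw [hx1]; exact one_mem _⟩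
    · obtain ⟨g, hg, hxg⟩ := hmemV x.1 x.2 (fun e => hx1 (Subtype.ext e))
      exact ⟨QuotientGroup.mk ⟨g, hg⟩, (hmk _ _).2 hxg⟩
  · intro q q' x hqq h1 h2
    apply Subtype.ext
    have h3 : (q.out : G)⁻¹ * (q'.out : G) ∉ M := by
      intro h4
      apply hqq
      have h5 : (QuotientGroup.mk q.out : Pj ⧸ M.subgroupOf Pj) = QuotientGroup.mk q'.out := QuotientGroup.eq.2 h4
      rwa [QuotientGroup.out_eq', QuotientGroup.out_eq'] at h5
    have h4 := c.chamber_inf v (hPj q.out.2) (hPj q'.out.2) h3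
    have h5 : (x : v.Vec) ∈ v.fix c.Dn (cj (q.out : G) R) ⊓ v.fix c.Dn (cj (q'.out : G) R) := ⟨h1, h2⟩
    rw [h4, mem_bot] at h5
    exact h5
  · intro q
    have h1 := c.chamber_ne_bot v hW (hPj q.out.2)
    obtain ⟨x, hx, hx1⟩ := (Subgroup.bot_or_exists_ne_one _).resolve_left h1
    exact ⟨⟨x, hVmem _ q.out.2 hx⟩, hx, fun e => hx1 (Subtype.ext_iff.1 e)⟩
  · intro q d d' hd hd'
    have hoe : ∀ (x y : Pj ⧸ M.subgroupOf Pj), ((x.out : Pj) : G)⁻¹ * (y.out : Pj) ∈ M → x = y := by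
      intro x y h4
      have h5 : (QuotientGroup.mk x.out : Pj ⧸ M.subgroupOf Pj) = QuotientGroup.mk y.out := QuotientGroup.eq.2 h4
      rwa [QuotientGroup.out_eq', QuotientGroup.out_eq'] at h5
    have h1 : (q.out : G)⁻¹ * (d.out : G) ∉ M := fun h4 => hd (hoe _ _ h4).symm
    have h2 : (q.out : G)⁻¹ * (d'.out : G) ∉ M := fun h4 => hd' (hoe _ _ h4).symm
    obtain ⟨m, ⟨hmP, hmM⟩, hm⟩ := two _ (Pj.mul_mem (Pj.inv_mem q.out.2) d.out.2) _
      (Pj.mul_mem (Pj.inv_mem q.out.2) d'.out.2) h1 h2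
    have hsm : ∀ (g : Pj) (x y : Pj ⧸ M.subgroupOf Pj), ((y.out : Pj) : G)⁻¹ * ((g : G) * (x.out : Pj)) ∈ M →
        g • x = y := by
      intro g x y h4
      have h5 : (QuotientGroup.mk y.out : Pj ⧸ M.subgroupOf Pj) = QuotientGroup.mk (g * x.out) := QuotientGroup.eq.2 h4
      rw [QuotientGroup.out_eq'] at h5
      have h6 : g • (QuotientGroup.mk x.out : Pj ⧸ M.subgroupOf Pj) = y := h5.symm
      rwa [QuotientGroup.out_eq'] at h6
    refine ⟨q.out * ⟨m, hmP⟩ * q.out⁻¹, hsm _ _ _ ?_, hsm _ _ _ ?_⟩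
    · show ((q.out : Pj) : G)⁻¹ * ((q.out : Pj) * m * ((q.out : Pj) : G)⁻¹ * (q.out : Pj)) ∈ M
      have e : ((q.out : Pj) : G)⁻¹ * ((q.out : Pj) * m * ((q.out : Pj) : G)⁻¹ * (q.out : Pj)) = m := by group
      rw [e]
      exact hmM
    · show ((d'.out : Pj) : G)⁻¹ * ((q.out : Pj) * m * ((q.out : Pj) : G)⁻¹ * (d.out : Pj)) ∈ M
      have e : ((d'.out : Pj) : G)⁻¹ * ((q.out : Pj) * m * ((q.out : Pj) : G)⁻¹ * (d.out : Pj)) =
          (((q.out : Pj) : G)⁻¹ * (d'.out : Pj))⁻¹ * (m * (((q.out : Pj) : G)⁻¹ * (d.out : Pj))) := by group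
      rw [e]
      exact hm

end PanelB

end Cfsg.Agent.H284
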