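import Cfsg.Agent.H284.EPO.TThree

/-!
# The maximal parabolic subgroup `W_J`, `J = I - i`, has three orbits on `W / W_J` (helper284, for helper869)

`W3 cs i` : `W = W_J ∪ W_J s_i W_J ∪ w W_J`. Proved for: `A_m`, `i` an end node; `A₃`, the middle node; `B_m`, the first
node (`m = 2` : both nodes); `D_m`, the first node; `D₄`, the three end nodes. Proof: the orbit of the fundamental weight
(the walks of helper965, helper35).
-/

set_option autoImplicit false
set_option linter.unusedSectionVars false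

namespace Cfsg.Agent.H284.TThree

open CoxeterSystem Cfsg.Agent.ChevalleyStructure.CoxeterGeom Cfsg.Agent.Tits.Roots Cfsg.Agent.Tits.Core
  Cfsg.Agent.Tits.RootComb Cfsg.Agent.Tits.Exchange Cfsg.Agent.Nodes.Comb Cfsg.Agent.Nodes.Reps
  Cfsg.Agent.Nodes.BNOf Cfsg.Agent.Nodes.StabComb Cfsg.Agent.Nodes.Bruhat Cfsg.Agent.Nodes.OppDec
  Cfsg.Agent.Nodes.LeviDec Cfsg.Agent.Nodes.NormalForm Cfsg.Agent.ChevalleyStructure.WeylAbstract
  Cfsg.Agent.H35.Poin Cfsg.Agent.H965.XZ

/-- `W = W_J ∪ W_J s_i W_J ∪ w W_J`, `J = I - i` -/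
def W3 {I W : Type*} [Group W] {M : CoxeterMatrix I} (cs : CoxeterSystem M W) (i : I) : Prop :=
  ∃ w : W, ∀ v : W, v ∈ WJ cs {i}ᶜ ∨ (∃ a ∈ WJ cs {i}ᶜ, ∃ b ∈ WJ cs {i}ᶜ, v = a * cs.simple i * b) ∨
    (∃ b ∈ WJ cs {i}ᶜ, v = w * b)

section RD

variable {ι Φ : Type*} [Fintype ι] [DecidableEq ι] (R : RData ι Φ)

/-- the stabiliser of the fundamental weight -/
theorem mem_of_co [Finite Φ] {k : ι} {w w' : Equiv.Perm Φ} (hw : w ∈ R.W Set.univ) (hw' : w' ∈ R.W Set.univ)
    (h : ∀ r, R.co (w⁻¹ r) k = R.co (w'⁻¹ r) k) : w'⁻¹ * w ∈ R.W {k}ᶜ := by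
  have hm : w'⁻¹ * w ∈ R.W Set.univ := mul_mem (inv_mem hw') hw
  obtain ⟨e, he, v, hv, heq⟩ := R.exists_D_mul (K := {k}ᶜ) (Set.subset_univ _) _ _ hm rfl
  have hstab : ∀ r, R.co ((w'⁻¹ * w) r) k = R.co r k := by
    intro r
    rw [Equiv.Perm.mul_apply, ← h (w r), Equiv.Perm.inv_def, Equiv.symm_apply_apply]
  have hvk : ∀ r, R.co (v r) k = R.co r k := fun r => R.co_of_mem hv r (by simp)
  have hek : ∀ r, R.co (e r) k = R.co r k := by
    intro r
    have h1 := hstab (v⁻¹ r)
    rw [heq, Equiv.Perm.mul_apply] at h1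
    have h2 : v (v⁻¹ r) = r := by rw [Equiv.Perm.inv_def, Equiv.apply_symm_apply]
    rw [h2] at h1
    rw [h1, ← hvk (v⁻¹ r), h2]
  have he1 : e = 1 := by
    apply R.eq_one_of_pos_all he.1
    intro r hr
    by_cases hs : R.Sub {k}ᶜ r
    · exact R.pos_of_D he hr hs
    · have hrk : R.co r k ≠ 0 := by
        intro h0
        apply hs
        intro i hi
        rw [Set.mem_compl_iff, Set.mem_singleton_iff, not_not] at hi
        rw [hi, h0]
      apply R.pos_of_coord (i := k)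
      rw [hek r]
      exact lt_of_le_of_ne (R.co_nonneg r hr k) (Ne.symm hrk)
  rw [heq, he1, one_mul]
  exact hv

/-- the weights of the middle orbit -/
def Mid (k : ι) (m : ι → ℤ) : Prop := ∃ a ∈ R.W {k}ᶜ, ∀ r, R.val m r = R.co ((a * R.refl k)⁻¹ r) k

theorem mid_one (k : ι) : Mid R k (R.act k (Pi.single k 1)) :=
  ⟨1, one_mem _, fun r => by rw [R.val_act, R.val_single, one_mul, R.refl_inv]⟩

theorem Mid.step {R : RData ι Φ} {k : ι} {m : ι → ℤ} (h : Mid R k m) {j : ι} (hj : j ≠ k) : Mid R k (R.act j m) := by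
  obtain ⟨a, ha, h1⟩ := h
  refine ⟨R.refl j * a, mul_mem (R.refl_mem_W hj) ha, fun r => ?_⟩
  rw [R.val_act, h1, mul_assoc, mul_inv_rev (R.refl j), Equiv.Perm.mul_apply, R.refl_inv]

theorem w3_of_weights [Finite Φ] {k : ι} {L : Set (ι → ℤ)} (h0 : Pi.single k 1 ∈ L)
    (hL : ∀ m ∈ L, ∀ j, R.act j m ∈ L) {z : ι → ℤ} (hz : R.Reach Set.univ k z)
    (h3 : ∀ m ∈ L, m = Pi.single k 1 ∨ Mid R k m ∨ m = z) :
    ∃ w ∈ R.W Set.univ, ∀ v ∈ R.W Set.univ, v ∈ R.W {k}ᶜ ∨
      (∃ a ∈ R.W {k}ᶜ, ∃ b ∈ R.W {k}ᶜ, v = a * R.refl k * b) ∨ ∃ b ∈ R.W {k}ᶜ, v = w * b := by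
  obtain ⟨w, hw, hwz⟩ := R.exists_of_reach hz
  refine ⟨w, hw, fun v hv => ?_⟩
  obtain ⟨m, hm, h1⟩ := R.mem_of_closed h0 (fun m hm j _ => hL m hm j) hv
  rcases h3 m hm with rfl | ⟨a, ha, h2⟩ | rfl
  · left
    have := mem_of_co R (k := k) hv (one_mem _) (fun r => by rw [← h1, R.val_single, inv_one, Equiv.Perm.one_apply])
    rwa [inv_one, one_mul] at this
  · right; left
    have hu : a * R.refl k ∈ R.W Set.univ :=
      mul_mem (R.W_mono (Set.subset_univ _) ha) (R.refl_mem_W (Set.mem_univ _))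
    have := mem_of_co R (k := k) hv hu (fun r => by rw [← h1, h2])
    exact ⟨a, ha, _, this, by group⟩
  · right; right
    have := mem_of_co R (k := k) hv hw (fun r => by rw [← h1, hwz])
    exact ⟨_, this, by group⟩

theorem reach_mu {J : Set ι} {u : ℕ → ι} {n : ℕ} (hu : ∀ t < n, u t ∈ J) : ∀ t ≤ n, R.Reach J (u 0) (mu R u t) := by
  intro t
  induction t with
  | zero => intro _; exact RData.Reach.base
  | succ t ih => intro ht; exact RData.Reach.step _ _ (hu t (by omega)) (ih (by omega))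

theorem mid_mu {u : ℕ → ι} {n : ℕ} (hu : ∀ t < n, 0 < t → u t ≠ u 0) : ∀ t ≤ n, 0 < t → Mid R (u 0) (mu R u t) := by
  intro t
  induction t with
  | zero => intro _ h; omega
  | succ t ih =>
    intro ht _
    rcases Nat.eq_zero_or_pos t with rfl | h0
    · exact mid_one R (u 0)
    · exact (ih (by omega) h0).step (hu t (by omega) h0)

end RD

/-! ### Transfer to the Coxeter group -/

section Tr

variable {I W : Type*} [Fintype I] [DecidableEq I] [Group W] {M : CoxeterMatrix I}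
  {cs : CoxeterSystem M W} {A : I → I → ℤ} (h : IsCartan M A)

include h

theorem w3_tr {i : I} (H : ∃ w ∈ (rdata cs h).W Set.univ, ∀ v ∈ (rdata cs h).W Set.univ, v ∈ (rdata cs h).W {i}ᶜ ∨
      (∃ a ∈ (rdata cs h).W {i}ᶜ, ∃ b ∈ (rdata cs h).W {i}ᶜ, v = a * (rdata cs h).refl i * b) ∨
        ∃ b ∈ (rdata cs h).W {i}ᶜ, v = w * b) : W3 cs i := by
  have hu : WJ cs (Set.univ : Set I) = ⊤ := by
    unfold WJ
    rw [Set.image_univ]
    exact cs.subgroup_closure_range_simple
  obtain ⟨w, hw, H⟩ := H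
  rw [W_eq, hu] at hw
  obtain ⟨w, -, rfl⟩ := hw
  refine ⟨w, fun v => ?_⟩
  have h1 := H (perm cs h v) (by rw [W_eq, hu]; exact ⟨v, trivial, rfl⟩)
  rw [W_eq] at h1
  rcases h1 with ⟨v', h2, h3⟩ | ⟨_, ⟨a, ha, rfl⟩, _, ⟨b, hb, rfl⟩, h3⟩ | ⟨_, ⟨b, hb, rfl⟩, h3⟩
  · left
    rwa [← perm_injective cs h h3]
  · right; left
    refine ⟨a, ha, b, hb, perm_injective cs h ?_⟩
    rw [h3, map_mul, map_mul]
    rfl
  · right; right
    refine ⟨b, hb, perm_injective cs h ?_⟩
    rw [h3, map_mul]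

variable [Finite W]

/-- a walk with exactly two or one steps at the node `u 0` (the first and the last) -/
theorem w3_walk {u : ℕ → I} {n : ℕ} (hW : Walk (rdata cs h) Set.univ u (n + 1)) (hu : ∀ t < n, 0 < t → u t ≠ u 0) :
    W3 cs (u 0) := by
  have : Finite (Rt cs h) := finite_rt cs h
  apply w3_tr h
  refine w3_of_weights (rdata cs h) (L := {m | ∃ t ≤ n + 1, mu (rdata cs h) u t = m}) ⟨0, by omega, rfl⟩ ?_
    (reach_mu _ (J := Set.univ) (n := n + 1) (fun _ _ => Set.mem_univ _) (n + 1) le_rfl) ?_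
  · rintro _ ⟨t, ht, rfl⟩ j
    by_cases h1 : t < n + 1 ∧ j = u t
    · refine ⟨t + 1, by omega, ?_⟩
      rw [h1.2]; rfl
    · by_cases h2 : 0 < t ∧ j = u (t - 1)
      · refine ⟨t - 1, by omega, ?_⟩
        obtain ⟨s, rfl⟩ : ∃ s, t = s + 1 := ⟨t - 1, by omega⟩
        rw [Nat.add_sub_cancel] at h2 ⊢
        rw [h2.2]
        exact (act_act (rdata cs h) _ _).symm
      · refine ⟨t, ht, (act_zero (rdata cs h) (hW.zero t (by omega) j (Set.mem_univ _) ?_ ?_)).symm⟩
        · intro h3 h4; exact h1 ⟨h3, h4⟩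
        · intro h3 h4; exact h2 ⟨h3, h4⟩
  · rintro _ ⟨t, ht, rfl⟩
    rcases (by omega : t = 0 ∨ (0 < t ∧ t ≤ n) ∨ t = n + 1) with rfl | ⟨h1, h2⟩ | rfl
    · exact Or.inl rfl
    · exact Or.inr (Or.inl (mid_mu _ hu t h2 h1))
    · exact Or.inr (Or.inr rfl)

theorem w3_bpath {c : ℕ → I} {k : ℕ} (hk : 2 ≤ k) (hP : BPath A Set.univ c k) : W3 cs (c 0) := by
  have hW := walk_of_bpath (R := rdata cs h) hP (by omega)
  obtain ⟨n, hn⟩ : ∃ n, 2 * k - 1 = n + 1 := ⟨2 * k - 2, by omega⟩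
  rw [hn] at hW
  have h0 : bk c k 0 = c 0 := bk_lt c (by omega)
  have := w3_walk h hW ?_
  · rwa [h0] at this
  · intro t ht ht0 e
    rw [h0] at e
    unfold bk at e
    split_ifs at e with h1
    · have := hP.inj t h1 0 (by omega) e
      omega
    · have := hP.inj _ (by omega) 0 (by omega) e
      omega

theorem w3_dpath {c : ℕ → I} {l : ℕ} (hP : DPath A Set.univ c l) : W3 cs (c 0) := by
  have : Finite (Rt cs h) := finite_rt cs h
  have h0 : dk c l 0 = c 0 := dk_lt c (by omega)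
  have hne : ∀ t < 2 * l + 3, 0 < t → dk c l t ≠ dk c l 0 := by
    intro t ht ht0 e
    rw [h0] at e
    unfold dk at e
    split_ifs at e with h1
    · have := hP.inj t h1 0 (by omega) e
      omega
    · have := hP.inj _ (by omega) 0 (by omega) e
      omega
  have hmid := mid_mu (rdata cs h) hne
  apply w3_tr h
  rw [← h0]
  have hr := reach_mu (rdata cs h) (J := Set.univ) (u := dk c l) (n := 2 * l + 4) (fun _ _ => Set.mem_univ _)
    (2 * l + 4) le_rfl
  refine w3_of_weights (rdata cs h) (L := {m | ∃ t < 2 * l + 6, nu (rdata cs h) c l t = m})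
    ⟨0, by omega, nu_lt (by omega)⟩ ?_ hr ?_
  · rintro _ ⟨t, ht, rfl⟩ j
    obtain ⟨s, hs, e⟩ := nud_closed (R := rdata cs h) hP ht (Set.mem_univ j)
    exact ⟨s, hs, e⟩
  · rintro _ ⟨t, ht, rfl⟩
    rcases (by omega : t = 0 ∨ (0 < t ∧ t ≤ 2 * l + 3) ∨ t = 2 * l + 4 ∨ t = 2 * l + 5) with rfl | ⟨h1, h2⟩ | rfl | rfl
    · left
      rw [nu_lt (by omega)]
      rfl
    · right; left
      rw [nu_lt (by omega)]
      exact hmid t h2 h1
    · right; right
      rw [nu_lt (by omega)]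
    · right; left
      rw [nu_last]
      refine (hmid (l + 1) (by omega) (by omega)).step ?_
      rw [h0]
      intro e
      have := hP.inj (l + 2) (by omega) 0 (by omega) e
      omega

theorem w3_apath {c : ℕ → I} {m : ℕ} (hm : 0 < m) (hP : APath A Set.univ c m) : W3 cs (c 0) := by
  have : Finite (Rt cs h) := finite_rt cs h
  have hmid := mid_mu (rdata cs h) (u := c) (n := m) (fun t ht h0 e => by
    have := hP.inj t ht 0 hm e
    omega)
  apply w3_tr h
  refine w3_of_weights (rdata cs h) (L := {x | ∃ t ≤ m, mu (rdata cs h) c t = x}) ⟨0, by omega, rfl⟩ ?_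
    (reach_mu _ (J := Set.univ) (n := m) (fun _ _ => Set.mem_univ _) m le_rfl) ?_
  · rintro _ ⟨t, ht, rfl⟩ j
    have h1 := mu_apply (rdata cs h) (J := Set.univ) hP hm t ht j (Set.mem_univ _)
    by_cases h2 : t < m ∧ j = c t
    · refine ⟨t + 1, by omega, ?_⟩
      rw [h2.2]; rfl
    · rw [if_neg h2] at h1
      by_cases h3 : 0 < t ∧ j = c (t - 1)
      · refine ⟨t - 1, by omega, ?_⟩
        obtain ⟨s, rfl⟩ : ∃ s, t = s + 1 := ⟨t - 1, by omega⟩
        rw [Nat.add_sub_cancel] at h3 ⊢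
        rw [h3.2]
        exact (act_act (rdata cs h) _ _).symm
      · rw [if_neg h3] at h1
        exact ⟨t, ht, (act_zero (rdata cs h) h1).symm⟩
  · rintro _ ⟨t, ht, rfl⟩
    rcases Nat.eq_zero_or_pos t with rfl | h1
    · exact Or.inl rfl
    · exact Or.inr (Or.inl (hmid t ht h1))

end Tr

/-! ### The families -/

/-- a component of type `D_3 = A_3` or `D_4` given by its nodes -/
theorem w3_three {I W : Type*} [Fintype I] [DecidableEq I] [Group W] [Finite W] {M : CoxeterMatrix I}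
    {cs : CoxeterSystem M W} {A : I → I → ℤ} (h : IsCartan M A) (a b c : I) (hall : ∀ j, j = a ∨ j = b ∨ j = c)
    (h1 : M a b = 3) (h2 : M a c = 3) (h3 : M b c = 2) : W3 cs a := by
  have ne : ∀ {x y : I} {q : ℕ}, M x y = q → q ≠ 1 → x ≠ y := by
    rintro x y q e hq rfl
    rw [M.diagonal] at e
    exact hq e.symm
  have n1 := ne h1 (by norm_num)
  have n2 := ne h2 (by norm_num)
  have n3 := ne h3 (by norm_num)
  obtain ⟨d, d0, d1, d2⟩ : ∃ d : ℕ → I, d 0 = a ∧ d 1 = b ∧ d 2 = c := ⟨c3 a b c, rfl, rfl, rfl⟩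
  have hP : DPath A Set.univ d 0 := by
    refine ⟨fun _ _ => Set.mem_univ _, fun t ht => ?_, ?_, fun s t h1 h2 => by omega, fun s hs => by omega, ?_,
      fun j _ hc => ?_, ?_⟩
    · have : t = 0 := by omega
      subst this
      rw [d0, zero_add, d1]
      exact cart3 h h1
    · rw [d0, zero_add, d2]
      exact cart3 h h2
    · rw [zero_add, zero_add, d1, d2]
      exact cart2 h h3
    · exfalso
      rcases hall j with e | e | e
      · exact hc 0 (by norm_num) (d0.trans e.symm)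
      · exact hc 1 (by norm_num) (d1.trans e.symm)
      · exact hc 2 (by norm_num) (d2.trans e.symm)
    · intro s hs t ht e
      interval_cases s <;> interval_cases t <;> simp only [d0, d1, d2] at e <;> first
        | rfl
        | exact (n1 e).elim
        | exact (n2 e).elim
        | exact (n3 e).elim
        | exact (n1 e.symm).elim
        | exact (n2 e.symm).elim
        | exact (n3 e.symm).elim
  have := w3_dpath h (cs := cs) hP
  rwa [d0] at this

theorem w3_four {I W : Type*} [Fintype I] [DecidableEq I] [Group W] [Finite W] {M : CoxeterMatrix I}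
    {cs : CoxeterSystem M W} {A : I → I → ℤ} (h : IsCartan M A) (a b c d : I)
    (hall : ∀ j, j = a ∨ j = b ∨ j = c ∨ j = d)
    (h1 : M a b = 3) (h2 : M b c = 3) (h3 : M b d = 3) (h4 : M a c = 2) (h5 : M a d = 2) (h6 : M c d = 2) :
    W3 cs a := by
  have ne : ∀ {x y : I} {q : ℕ}, M x y = q → q ≠ 1 → x ≠ y := by
    rintro x y q e hq rfl
    rw [M.diagonal] at e
    exact hq e.symm
  have n1 := ne h1 (by norm_num)
  have n2 := ne h2 (by norm_num)
  have n3 := ne h3 (by norm_num)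
  have n4 := ne h4 (by norm_num)
  have n5 := ne h5 (by norm_num)
  have n6 := ne h6 (by norm_num)
  obtain ⟨f, d0, d1, d2, d3⟩ : ∃ f : ℕ → I, f 0 = a ∧ f 1 = b ∧ f 2 = c ∧ f 3 = d :=
    ⟨fun t => if t = 0 then a else if t = 1 then b else if t = 2 then c else d, rfl, rfl, rfl, rfl⟩
  have hP : DPath A Set.univ f 1 := by
    refine ⟨fun _ _ => Set.mem_univ _, fun t ht => ?_, ?_, fun s t h7 h8 => ?_, fun s hs => ?_, ?_,
      fun j _ hc => ?_, ?_⟩
    · rcases (by omega : t = 0 ∨ t = 1) with rfl | rfl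
      · rw [d0, zero_add, d1]
        exact cart3 h h1
      · rw [d1, show 1 + 1 = 2 from rfl, d2]
        exact cart3 h h2
    · rw [d1, show 1 + 2 = 3 from rfl, d3]
      exact cart3 h h3
    · obtain rfl : s = 0 := by omega
      obtain rfl : t = 2 := by omega
      rw [d0, d2]
      exact cart2 h h4
    · obtain rfl : s = 0 := by omega
      rw [d0, show 1 + 2 = 3 from rfl, d3]
      exact cart2 h h5
    · rw [show 1 + 1 = 2 from rfl, show 1 + 2 = 3 from rfl, d2, d3]
      exact cart2 h h6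
    · exfalso
      rcases hall j with e | e | e | e
      · exact hc 0 (by norm_num) (d0.trans e.symm)
      · exact hc 1 (by norm_num) (d1.trans e.symm)
      · exact hc 2 (by norm_num) (d2.trans e.symm)
      · exact hc 3 (by norm_num) (d3.trans e.symm)
    · intro s hs t ht e
      interval_cases s <;> interval_cases t <;> simp only [d0, d1, d2, d3] at e <;> first
        | rfl
        | exact (n1 e).elim
        | exact (n2 e).elim
        | exact (n3 e).elim
        | exact (n4 e).elim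
        | exact (n5 e).elim
        | exact (n6 e).elim
        | exact (n1 e.symm).elim
        | exact (n2 e.symm).elim
        | exact (n3 e.symm).elim
        | exact (n4 e.symm).elim
        | exact (n5 e.symm).elim
        | exact (n6 e.symm).elim
  have := w3_dpath h (cs := cs) hP
  rwa [d0] at this

theorem w3_two {I W : Type*} [Fintype I] [DecidableEq I] [Group W] [Finite W] {M : CoxeterMatrix I}
    {cs : CoxeterSystem M W} {A : I → I → ℤ} (h : IsCartan M A) (a b : I) (hall : ∀ j, j = a ∨ j = b)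
    (h1 : M a b = 4) : W3 cs a := by
  have hab : a ≠ b := by
    rintro rfl
    rw [M.diagonal] at h1
    omega
  obtain ⟨d, d0, d1⟩ : ∃ d : ℕ → I, d 0 = a ∧ d 1 = b := ⟨fun t => if t = 0 then a else b, rfl, rfl⟩
  have hP : BPath A Set.univ d 2 := by
    refine ⟨fun _ _ => Set.mem_univ _, fun t ht => by omega, fun t ht => ?_, fun s t h1 h2 => by omega,
      fun j _ hc => ?_, ?_⟩
    · have : t = 0 := by omega
      subst this
      rw [d0, zero_add, d1]
      exact cart4 h h1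
    · exfalso
      rcases hall j with e | e
      · exact hc 0 (by norm_num) (d0.trans e.symm)
      · exact hc 1 (by norm_num) (d1.trans e.symm)
    · intro s hs t ht e
      interval_cases s <;> interval_cases t <;> simp only [d0, d1] at e <;> first
        | rfl
        | exact (hab e).elim
        | exact (hab e.symm).elim
  have := w3_bpath h (cs := cs) le_rfl hP
  rwa [d0] at this

theorem w3_A3 {W : Type*} [Group W] [Finite W] {A : Fin 3 → Fin 3 → ℤ}
    {cs : CoxeterSystem (Cfsg.Agent.LieRecognition.BNCox.cA 3) W}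
    (h : IsCartan (Cfsg.Agent.LieRecognition.BNCox.cA 3) A) : W3 cs 1 :=
  w3_three h 1 0 2 (by decide) (by rw [Cfsg.Agent.LieRecognition.BNCox.cA_apply]; rfl)
    (by rw [Cfsg.Agent.LieRecognition.BNCox.cA_apply]; rfl) (by rw [Cfsg.Agent.LieRecognition.BNCox.cA_apply]; rfl)

theorem w3_B2 {W : Type*} [Group W] [Finite W] {A : Fin 2 → Fin 2 → ℤ}
    {cs : CoxeterSystem (CoxeterMatrix.B 2) W} (h : IsCartan (CoxeterMatrix.B 2) A) (i : Fin 2) : W3 cs i := by
  have hc : ∀ i : Fin 2, i = 0 ∨ i = 1 := by decide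
  rcases hc i with rfl | rfl
  · exact w3_two h 0 1 hc rfl
  · exact w3_two h 1 0 (fun j => (hc j).symm) rfl

/-- the end nodes of `D₄` -/
theorem w3_D4 {W : Type*} [Group W] [Finite W] {A : Fin (2 + 2) → Fin (2 + 2) → ℤ}
    {cs : CoxeterSystem (Cfsg.Agent.Nodes.TypeD.M 2) W} (h : IsCartan (Cfsg.Agent.Nodes.TypeD.M 2) A)
    {i : Fin (2 + 2)} (hi : (i : ℕ) ≠ 1) : W3 cs i := by
  have hc : ∀ i : Fin (2 + 2), (i : ℕ) ≠ 1 → i = 0 ∨ i = 2 ∨ i = 3 := by decide
  rcases hc i hi with rfl | rfl | rfl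
  · exact w3_four h 0 1 2 3 (by decide) (by decide) (by decide) (by decide) (by decide) (by decide) (by decide)
  · exact w3_four h 2 1 0 3 (by decide) (by decide) (by decide) (by decide) (by decide) (by decide) (by decide)
  · exact w3_four h 3 1 0 2 (by decide) (by decide) (by decide) (by decide) (by decide) (by decide) (by decide)

theorem w3_A {m : ℕ} {W : Type*} [Group W] [Finite W] {A : Fin m → Fin m → ℤ}
    {cs : CoxeterSystem (Cfsg.Agent.LieRecognition.BNCox.cA m) W}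
    (h : IsCartan (Cfsg.Agent.LieRecognition.BNCox.cA m) A) {i : Fin m} (hi : (i : ℕ) = 0 ∨ (i : ℕ) + 1 = m) :
    W3 cs i := by
  have hm : 0 < m := by have := i.2; omega
  have e3 : ∀ a b : Fin m, (a : ℕ) + 1 = b → Cfsg.Agent.LieRecognition.BNCox.cA m a b = 3 := by
    intro a b hab
    rw [Cfsg.Agent.LieRecognition.BNCox.cA_apply]
    show (if (a : ℕ) = b then 1 else if (a : ℕ) + 1 = b ∨ (b : ℕ) + 1 = a then 3 else 2) = 3
    rw [if_neg (by omega), if_pos (Or.inl hab)]
  have e2 : ∀ a b : Fin m, (a : ℕ) + 1 < b → Cfsg.Agent.LieRecognition.BNCox.cA m a b = 2 := by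
    intro a b hab
    rw [Cfsg.Agent.LieRecognition.BNCox.cA_apply]
    show (if (a : ℕ) = b then 1 else if (a : ℕ) + 1 = b ∨ (b : ℕ) + 1 = a then 3 else 2) = 2
    rw [if_neg (by omega), if_neg (by omega)]
  rcases hi with hi | hi
  · have hP : APath A Set.univ (nd hm) m := by
      refine ⟨fun _ _ => Set.mem_univ _, fun t ht => cart3 h (e3 _ _ ?_), fun s t h1 h2 => cart2 h (e2 _ _ ?_),
        fun j _ hc => ?_, fun s hs t ht e => ?_⟩
      · rw [nd_val hm (by omega), nd_val hm ht]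
      · rw [nd_val hm (by omega), nd_val hm h2]
        exact h1
      · exact (hc j j.2 (Fin.ext (nd_val hm j.2))).elim
      · have e := congrArg Fin.val e
        rwa [nd_val hm hs, nd_val hm ht] at e
    have h1 := w3_apath h (cs := cs) hm hP
    have h2 : nd hm 0 = i := Fin.ext (by rw [nd_val hm hm, hi])
    rwa [h2] at h1
  · have hv : ∀ t < m, ((nd hm (m - 1 - t) : Fin m) : ℕ) = m - 1 - t := fun t ht => nd_val hm (by omega)
    have hP : APath A Set.univ (fun t => nd hm (m - 1 - t)) m := by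
      refine ⟨fun _ _ => Set.mem_univ _, fun t ht => ?_, fun s t h1 h2 => ?_, fun j _ hc => ?_, fun s hs t ht e => ?_⟩
      · have := cart3 h (e3 (nd hm (m - 1 - (t + 1))) (nd hm (m - 1 - t)) (by rw [hv _ ht, hv _ (by omega)]; omega))
        exact ⟨this.2, this.1⟩
      · have := cart2 h (e2 (nd hm (m - 1 - t)) (nd hm (m - 1 - s)) (by rw [hv _ h2, hv _ (by omega)]; omega))
        exact ⟨this.2, this.1⟩
      · have hj := j.2
        exact (hc (m - 1 - j) (by omega) (Fin.ext (by rw [hv _ (by omega)]; omega))).elim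
      · have e := congrArg Fin.val e
        simp only [hv s hs, hv t ht] at e
        omega
    have h1 := w3_apath h (cs := cs) hm hP
    have h2 : nd hm (m - 1 - 0) = i := Fin.ext (by rw [hv 0 hm]; omega)
    rwa [h2] at h1


theorem w3_B {m : ℕ} {W : Type*} [Group W] [Finite W] {A : Fin m → Fin m → ℤ}
    {cs : CoxeterSystem (CoxeterMatrix.B m) W} (h : IsCartan (CoxeterMatrix.B m) A) (hm : 2 ≤ m) {i : Fin m}
    (hi : (i : ℕ) = 0) : W3 cs i := by
  have hP := bpath_tail h (by omega : 0 < m) (le_refl m) (J := Set.univ) (fun j => by simp)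
  have h1 := w3_bpath h (cs := cs) hm hP
  have h2 : nd (by omega : 0 < m) (m - m + 0) = i := Fin.ext (by rw [nd_val _ (by omega)]; omega)
  rwa [h2] at h1


theorem w3_D {k : ℕ} {W : Type*} [Group W] [Finite W] {A : Fin (k + 2) → Fin (k + 2) → ℤ}
    {cs : CoxeterSystem (Cfsg.Agent.Nodes.TypeD.M k) W} (h : IsCartan (Cfsg.Agent.Nodes.TypeD.M k) A) (hk : 1 ≤ k)
    {i : Fin (k + 2)} (hi : (i : ℕ) = 0) : W3 cs i := by
  have adj : ∀ a b : Fin (k + 2), ((b : ℕ) < k + 1 ∧ (a : ℕ) + 1 = b ∨ (b : ℕ) = k + 1 ∧ (a : ℕ) + 2 = b) →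
      A a b = -1 ∧ A b a = -1 := fun a b hab => cartD_adj h hab
  have far : ∀ a b : Fin (k + 2), a ≠ b → ¬ ((b : ℕ) < k + 1 ∧ (a : ℕ) + 1 = b ∨ (b : ℕ) = k + 1 ∧ (a : ℕ) + 2 = b) →
      ¬ ((a : ℕ) < k + 1 ∧ (b : ℕ) + 1 = a ∨ (a : ℕ) = k + 1 ∧ (b : ℕ) + 2 = a) → A a b = 0 ∧ A b a = 0 :=
    fun a b h1 h2 h3 => cartD_far h h1 h2 h3
  have hm : 0 < k + 2 := by omega
  have hne : ∀ s t : ℕ, s < t → t < k + 2 → nd hm s ≠ nd hm t := by
    intro s t hs ht e
    have e := congrArg Fin.val e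
    rw [nd_val hm (by omega), nd_val hm ht] at e
    omega
  obtain ⟨l, rfl⟩ : ∃ l, k = l + 1 := ⟨k - 1, by omega⟩
  have hP : DPath A Set.univ (nd hm) l := by
    refine ⟨fun _ _ => Set.mem_univ _, fun t ht => adj _ _ ?_, adj _ _ ?_, fun s t h1 h2 => far _ _ ?_ ?_ ?_,
      fun s hs => far _ _ ?_ ?_ ?_, far _ _ ?_ ?_ ?_, fun j _ hc => ?_, fun s hs t ht e => ?_⟩
    · rw [nd_val hm (by omega), nd_val hm (by omega)]; omega
    · rw [nd_val hm (by omega), nd_val hm (by omega)]; omega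
    · exact hne _ _ (by omega) (by omega)
    · rw [nd_val hm (by omega), nd_val hm (by omega)]; omega
    · rw [nd_val hm (by omega), nd_val hm (by omega)]; omega
    · exact hne _ _ (by omega) (by omega)
    · rw [nd_val hm (by omega), nd_val hm (by omega)]; omega
    · rw [nd_val hm (by omega), nd_val hm (by omega)]; omega
    · exact hne _ _ (by omega) (by omega)
    · rw [nd_val hm (by omega), nd_val hm (by omega)]; omega
    · rw [nd_val hm (by omega), nd_val hm (by omega)]; omega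
    · exact (hc j j.2 (Fin.ext (nd_val hm j.2))).elim
    · have e := congrArg Fin.val e
      rwa [nd_val hm hs, nd_val hm ht] at e
  have h1 := w3_dpath h (cs := cs) hP
  have h2 : nd hm 0 = i := Fin.ext (by rw [nd_val hm hm, hi])
  rwa [h2] at h1


end Cfsg.Agent.H284.TThree
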